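import Cfsg.Agent.Omega.NSix.Free.Main

/-!
# OMEGA N6 / LeafF4, `m ≥ 3` (#18458, helper300): the END for a partner of type `T`

`SixF.central`: the elements of the centre of `O₂(C_G(r_ij))` are in `O₂(C_G(r_pq))` for all pairs.
`SixF.false_three`: `c₁ c₂ c₃ = 1`, all in the centre of `O₂(C_G(r_ij))`; `a'` induces `(i j)` on `V` and commutes with
`r_ij ^ f` for every `f` which commutes with some `c_k` : impossible.
-/

set_option autoImplicit false

namespace Cfsg.Agent.Omega.NSix.Free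

open Subgroup Cfsg
open Cfsg.Agent.ZN (o2)
open Cfsg.Agent.MinSimple.VModule (o2_le)
open Cfsg.Agent.MinSimple.Geo (inf_centralizer_o2_le)
open Cfsg.Agent.Omega.S5.Def Cfsg.Agent.Omega.NSix.Base Cfsg.Agent.Omega.NSix.Basic
open Cfsg.Agent.Omega.NSix.One
open Cfsg.Agent.Omega.NSix.End.Six (exists_off)

universe u

variable {G : Type u} [Group G] {n : ℕ} {V L : Subgroup G} {ε : (Fin n → ZMod 2) → G}
  {W : Fin n → Fin n → Subgroup G}

section

variable [Finite G] (hG : IsCharacteristicTwoType G) (b : SixF V L ε W) (hodd : Odd n) (hn : 7 ≤ n)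
  (S : Sylow 2 G) (hS : (S : Subgroup G) ≤ L) {o : Fin n}
  (ho : ∀ s ∈ (S : Subgroup G), s * zz ε o = zz ε o * s)
include hG b hodd hn hS ho

/-- `Z(O₂(C_G(r_ij))) ≤ O₂(C_G(r_pq))` for all pairs -/
theorem SixF.central {i j : Fin n} (hij : i ≠ j) {c : G} (hc : c ∈ o2 (NN ε i j))
    (hcc : ∀ x ∈ o2 (NN ε i j), c * x = x * c) {p q : Fin n} (hpq : p ≠ q) : c ∈ o2 (NN ε p q) := by
  refine o_le b hodd hn S hS ho hpq
    (inf_centralizer_o2_le hG (gg_local b.toBase (by omega)) (Subgroup.mem_inf.mpr ⟨?_, ?_⟩))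
  · exact nn_le hG b hodd hn S hS ho hij (o2_le _ hc)
  · rw [mem_centralizer_iff]
    intro x hx
    exact (hcc x (o_le b hodd hn S hS ho hij hx)).symm

/-- `w ∈ W_ip`, inducing `(i p)`: `c^w = c r_ip` -/
theorem SixF.central_conj {i j p : Fin n} (hij : i ≠ j) (pi : p ≠ i) (pj : p ≠ j) {c : G} (hc : c ∈ o2 (NN ε i j))
    (hcc : ∀ x ∈ o2 (NN ε i j), c * x = x * c) {a : G} (ha : Acts ε a (Equiv.swap i j))
    (hf : ∀ f : G, f * c = c * f → a * (f * rr ε i j * f⁻¹) = (f * rr ε i j * f⁻¹) * a)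
    {w : G} (hw : w ∈ W i p) (hws : Acts ε w (Equiv.swap i p)) : w * c * w⁻¹ = c * rr ε i p := by
  refine (b.qc i p pi.symm c (SixF.central hG b hodd hn S hS ho hij hc hcc pi.symm) w hw).resolve_left
    fun h1 => ?_
  have h2 := hf w (mul_inv_eq_iff_eq_mul.mp h1)
  have h3 := rr_conj hws (i := i) (j := j)
  rw [Equiv.swap_apply_left, Equiv.swap_apply_of_ne_of_ne hij.symm pj.symm] at h3
  rw [h3] at h2
  have h4 := rr_conj ha (i := p) (j := j)
  rw [Equiv.swap_apply_right, Equiv.swap_apply_of_ne_of_ne pi pj, h2, mul_inv_cancel_right] at h4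
  have h5 := rr_add b.ev p j i
  have h6 : rr ε p i * rr ε p j = 1 := by
    rw [← h4, rr_sq b.ev]
  have h7 := rr_add b.ev i p j
  rw [rr_symm b.ev i p, h6] at h7
  exact rr_ne_one b.ev (by omega) hij h7.symm

/-- **END for a partner of type `T`** -/
theorem SixF.false_three {i j : Fin n} (hij : i ≠ j) {c : Fin 3 → G} (hc : ∀ k, c k ∈ o2 (NN ε i j))
    (hcc : ∀ k, ∀ x ∈ o2 (NN ε i j), c k * x = x * c k) (hp : c 0 * c 1 * c 2 = 1) {a : G}
    (ha : Acts ε a (Equiv.swap i j))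
    (hf : ∀ k, ∀ f : G, f * c k = c k * f → a * (f * rr ε i j * f⁻¹) = (f * rr ε i j * f⁻¹) * a) : False := by
  obtain ⟨p, -, -, ⟨pi, pj, -, -⟩, -⟩ := exists_off (n := n) (by omega) i j i j
  obtain ⟨w, hw, hws⟩ := b.mov i p pi.symm
  have h1 := fun k => SixF.central_conj hG b hodd hn S hS ho hij pi pj (hc k) (hcc k) ha (hf k) hw hws
  have h2 : ∀ k, rr ε i p * c k = c k * rr ε i p := fun k =>
    (mem_NN.mp (o2_le _ (SixF.central hG b hodd hn S hS ho hij (hc k) (hcc k) pi.symm))).symm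
  have h3 : w * (c 0 * c 1 * c 2) * w⁻¹ = (w * c 0 * w⁻¹) * (w * c 1 * w⁻¹) * (w * c 2 * w⁻¹) := by group
  rw [h1 0, h1 1, h1 2, hp, mul_one, mul_inv_cancel] at h3
  have h4 : c 0 * rr ε i p * (c 1 * rr ε i p) * (c 2 * rr ε i p) = rr ε i p := by
    calc c 0 * rr ε i p * (c 1 * rr ε i p) * (c 2 * rr ε i p)
        = c 0 * (rr ε i p * c 1) * rr ε i p * (c 2 * rr ε i p) := by group
      _ = c 0 * c 1 * (rr ε i p * rr ε i p) * (c 2 * rr ε i p) := by rw [h2 1]; group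
      _ = (c 0 * c 1 * c 2) * rr ε i p := by rw [rr_sq b.ev]; group
      _ = rr ε i p := by rw [hp, one_mul]
  rw [h4] at h3
  exact rr_ne_one b.ev (by omega) pi.symm h3.symm

/-- **END for a partner with two commuting central elements**: `c₁ c₂ = c₃` all as in `central_conj` -/
theorem SixF.false_two {i j : Fin n} (hij : i ≠ j) {c₁ c₂ : G} (hc₁ : c₁ ∈ o2 (NN ε i j)) (hc₂ : c₂ ∈ o2 (NN ε i j))
    (hcc₁ : ∀ x ∈ o2 (NN ε i j), c₁ * x = x * c₁) (hcc₂ : ∀ x ∈ o2 (NN ε i j), c₂ * x = x * c₂) {a : G}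
    (ha : Acts ε a (Equiv.swap i j))
    (hf₁ : ∀ f : G, f * c₁ = c₁ * f → a * (f * rr ε i j * f⁻¹) = (f * rr ε i j * f⁻¹) * a)
    (hf₂ : ∀ f : G, f * c₂ = c₂ * f → a * (f * rr ε i j * f⁻¹) = (f * rr ε i j * f⁻¹) * a)
    (hf₃ : ∀ f : G, f * (c₁ * c₂) = c₁ * c₂ * f → a * (f * rr ε i j * f⁻¹) = (f * rr ε i j * f⁻¹) * a) :
    False := by
  have hm3 : c₁ * c₂ ∈ o2 (NN ε i j) := mul_mem hc₁ hc₂
  have hc3 : ∀ x ∈ o2 (NN ε i j), c₁ * c₂ * x = x * (c₁ * c₂) := fun x hx => by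
    rw [mul_assoc, hcc₂ x hx, ← mul_assoc, hcc₁ x hx, mul_assoc]
  obtain ⟨p, -, -, ⟨pi, pj, -, -⟩, -⟩ := exists_off (n := n) (by omega) i j i j
  obtain ⟨w, hw, hws⟩ := b.mov i p pi.symm
  have h1 := SixF.central_conj hG b hodd hn S hS ho hij pi pj hc₁ hcc₁ ha hf₁ hw hws
  have h2 := SixF.central_conj hG b hodd hn S hS ho hij pi pj hc₂ hcc₂ ha hf₂ hw hws
  have h3 := SixF.central_conj hG b hodd hn S hS ho hij pi pj hm3 hc3 ha hf₃ hw hws
  have h4 : rr ε i p * c₂ = c₂ * rr ε i p :=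
    (mem_NN.mp (o2_le _ (SixF.central hG b hodd hn S hS ho hij hc₂ hcc₂ pi.symm))).symm
  have h5 : w * (c₁ * c₂) * w⁻¹ = (w * c₁ * w⁻¹) * (w * c₂ * w⁻¹) := by group
  rw [h3, h1, h2] at h5
  have h6 : c₁ * rr ε i p * (c₂ * rr ε i p) = c₁ * c₂ := by
    calc c₁ * rr ε i p * (c₂ * rr ε i p) = c₁ * (rr ε i p * c₂) * rr ε i p := by group
      _ = c₁ * c₂ * (rr ε i p * rr ε i p) := by rw [h4]; group
      _ = c₁ * c₂ := by rw [rr_sq b.ev, mul_one]
  rw [h6] at h5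
  exact rr_ne_one b.ev (by omega) pi.symm (mul_eq_left.mp h5)

end

end Cfsg.Agent.Omega.NSix.Free
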