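import Cfsg.Agent.Omega.NSix.Free.Core

/-!
# OMEGA N6 / LeafF4 (O4), #17439 / #17532 (helper300), (6)

`nn_le`: `C_G(r_ij) ≤ N_G(V Σ)` for all pairs, `Σ = ⋂ U_p`, in the situation `SixF` ((H1), (H2)); `V Σ` is
elementary abelian.  `conj_comm`: `V` and `V^h` commute for `h ∈ C_G(r_ij)`.  `SixF.false`: there is no T-T pair.
-/

set_option autoImplicit false

namespace Cfsg.Agent.Omega.NSix.Free

open Subgroup Cfsg
open Cfsg.Agent.ZN (o2)
open Cfsg.Agent.Omega.S5.Def Cfsg.Agent.Omega.NSix.Base Cfsg.Agent.Omega.NSix.Basic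
open Cfsg.Agent.Omega.NSix.One
open Cfsg.Agent.Omega.NSix.End.Six (exists_off)

universe u

variable {G : Type u} [Group G] {n : ℕ} {V L : Subgroup G} {ε : (Fin n → ZMod 2) → G}
  {W : Fin n → Fin n → Subgroup G}

/-- an element of `V` constant on `{i, j}` and on the complement -/
theorem two_values (h : EvenSet n V L ε) {i j : Fin n} (hij : i ≠ j) {y : Fin n → ZMod 2}
    (h1 : y i = y j) (h2 : ∀ a c, a ≠ c → a ≠ i → a ≠ j → c ≠ i → c ≠ j → y a = y c) :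
    ε y = 1 ∨ ε y = rr ε i j := by
  by_cases h3 : ∃ m, m ≠ i ∧ m ≠ j
  swap
  · left
    rcases Tv.z2 (y i) with h0 | h0
    · refine (h.ker y).mpr (Or.inl ?_)
      funext m
      by_cases hm : m = i
      · rw [hm, h0]; rfl
      · have hm' : m = j := by
          by_contra hm'
          exact h3 ⟨m, hm, hm'⟩
        rw [hm', ← h1, h0]; rfl
    · refine (h.ker y).mpr (Or.inr ?_)
      funext m
      by_cases hm : m = i
      · rw [hm, h0]; rfl
      · have hm' : m = j := by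
          by_contra hm'
          exact h3 ⟨m, hm, hm'⟩
        rw [hm', ← h1, h0]; rfl
  obtain ⟨m, mi, mj⟩ := h3
  have hF : ∀ a, a ≠ i → a ≠ j → y a = y m := by
    intro a ai aj
    by_cases ham : a = m
    · rw [ham]
    · exact h2 a m ham ai aj mi mj
  have hrr : rr ε i j = ε (Pi.single i 1 + Pi.single j 1) := (h.add _ _).symm
  rw [hrr]
  rcases Tv.z2 (y i) with h0 | h0 <;> rcases Tv.z2 (y m) with h4 | h4
  · left
    refine (h.ker y).mpr (Or.inl ?_)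
    funext a
    by_cases ai : a = i
    · rw [ai, h0]; rfl
    by_cases aj : a = j
    · rw [aj, ← h1, h0]; rfl
    · rw [hF a ai aj, h4]; rfl
  · right
    rw [h.eq_iff]
    right
    funext a
    rw [Pi.add_apply, Pi.add_apply, Pi.one_apply]
    by_cases ai : a = i
    · rw [ai, h0, Pi.single_eq_same, Pi.single_eq_of_ne hij]; decide
    by_cases aj : a = j
    · rw [aj, ← h1, h0, Pi.single_eq_same, Pi.single_eq_of_ne (Ne.symm hij)]; decide
    · rw [hF a ai aj, h4, Pi.single_eq_of_ne ai, Pi.single_eq_of_ne aj]; decide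
  · right
    congr 1
    funext a
    rw [Pi.add_apply]
    by_cases ai : a = i
    · rw [ai, h0, Pi.single_eq_same, Pi.single_eq_of_ne hij]; decide
    by_cases aj : a = j
    · rw [aj, ← h1, h0, Pi.single_eq_same, Pi.single_eq_of_ne (Ne.symm hij)]; decide
    · rw [hF a ai aj, h4, Pi.single_eq_of_ne ai, Pi.single_eq_of_ne aj]; decide
  · left
    refine (h.ker y).mpr (Or.inr ?_)
    funext a
    by_cases ai : a = i
    · rw [ai, h0]; rfl
    by_cases aj : a = j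
    · rw [aj, ← h1, h0]; rfl
    · rw [hF a ai aj, h4]; rfl

/-- every pair is conjugate to `{i, j}` under elements which centralise `Σ` -/
theorem trans_sg (b : Base V L ε W) {i j p q : Fin n} (hij : i ≠ j) (hpq : p ≠ q) :
    ∃ f : G, (∀ s ∈ SG ε, f * s * f⁻¹ = s) ∧ f * rr ε i j * f⁻¹ = rr ε p q := by
  refine spread_abs (P := fun _ => True)
    (Q := fun p q => ∃ f : G, (∀ s ∈ SG ε, f * s * f⁻¹ = s) ∧ f * rr ε i j * f⁻¹ = rr ε p q) ?_ ?_
    trivial trivial trivial trivial hij hpq ⟨1, fun s _ => by group, by group⟩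
  · rintro a c ⟨f, hf, h⟩
    exact ⟨f, hf, by rw [h, rr_symm b.ev]⟩
  · rintro p q a c - - hpq ⟨f, hf, h⟩
    obtain ⟨w, hw, hws⟩ := b.mov p q hpq
    refine ⟨w * f, fun s hs => ?_, ?_⟩
    · calc w * f * s * (w * f)⁻¹ = w * (f * s * f⁻¹) * w⁻¹ := by group
        _ = s := by rw [hf s hs, sg_cen b hs hpq hw]
    · rw [← rr_conj hws, ← h]
      group

section

variable [Finite G] (b : Base V L ε W) (hn : 7 ≤ n)
include b hn

/-- if `r_kl^h` is not in the `D'`-orbit of `r_kl` then `W_ac` centralises `r_pq^h` -/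
theorem perp {i j k l : Fin n} (hij : i ≠ j) (hkl : k ≠ l) (ki : k ≠ i) (kj : k ≠ j) (li : l ≠ i)
    (lj : l ≠ j) {h : G} (hh : h ∈ NN ε i j)
    (hno : ¬ ∃ d ∈ DD ε W i j, d * rr ε k l * d⁻¹ = h * rr ε k l * h⁻¹) {p q a c : Fin n}
    (hpq : p ≠ q) (pi : p ≠ i) (pj : p ≠ j) (qi : q ≠ i) (qj : q ≠ j) (hac : a ≠ c) (ai : a ≠ i)
    (aj : a ≠ j) (ci : c ≠ i) (cj : c ≠ j) {w : G} (hw : w ∈ W a c) :
    w * (h * rr ε p q * h⁻¹) * w⁻¹ = h * rr ε p q * h⁻¹ := by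
  by_contra hm
  set e := h * rr ε p q * h⁻¹ with he
  have hn3 : 3 ≤ n := by omega
  have wit : Wit ε i j e h p q := ⟨hh, hpq, pi, pj, qi, qj, he⟩
  have heK : KK ε i j e := ⟨h, p, q, wit⟩
  have heU := kk_mem_UU heK
  have hwc : Wc ε W i j (rr ε a c) w := (wc_rr b ⟨ai, aj⟩ ⟨ci, cj⟩ hac).mpr hw
  have hrK := wc_kk hwc
  have hrU := kk_mem_UU hrK
  have h1 : w * e * w⁻¹ = e * rr ε a c := (wc_act b hij hwc heU).resolve_left hm
  -- adjacency
  have hS := sys b hn3 hij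
  obtain ⟨f, hf⟩ := exists_f b hn3 hij hwc
  have hf1 : f (mk b hij heU) = 1 := by
    refine Tv.z2_one fun h0 => ?_
    rw [hf.iff_zero (kk_ne b hn3 hrK), val_mk] at h0
    exact hm h0
  have hadj : Tv.Adj (FF b hij) (mk b hij hrU) (mk b hij heU) := ⟨f, ⟨w, hwc, hf⟩, hf1⟩
  obtain ⟨g, ⟨x, hx, hg⟩, hg1⟩ := hS.sym (c := mk b hij hrU) (d := mk b hij heU) hrK heK hadj
  rw [val_mk] at hx
  have h2 : x * rr ε a c * x⁻¹ = rr ε a c * e := by
    have h3 := hg (mk b hij hrU)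
    rw [hg1, pw_one, val_mk, val_mk] at h3
    exact h3
  have h3 : w * e * w⁻¹ = x * rr ε a c * x⁻¹ := by
    rw [h1, h2, uu_comm b hij heU hrU]
  obtain ⟨d1, hd1, e1⟩ := dd_trans b ki kj li lj hkl ai aj ci cj hac
  obtain ⟨d2, hd2, e2⟩ := dd_trans b ki kj li lj hkl pi pj qi qj hpq
  have hd2' : h * d2 * h⁻¹ ∈ DD ε W i j := (mem_normalizer_iff.mp (dd_normal hh) d2).mp hd2
  apply hno
  refine ⟨(h * d2 * h⁻¹)⁻¹ * (w⁻¹ * x * d1), mul_mem (inv_mem hd2')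
    (mul_mem (mul_mem (inv_mem (wc_le_DD hwc)) (wc_le_DD hx)) hd1), ?_⟩
  have h4 : e = (w⁻¹ * x * d1) * rr ε k l * (w⁻¹ * x * d1)⁻¹ := by
    calc e = w⁻¹ * (w * e * w⁻¹) * w := by group
      _ = w⁻¹ * (x * rr ε a c * x⁻¹) * w := by rw [h3]
      _ = w⁻¹ * (x * (d1 * rr ε k l * d1⁻¹) * x⁻¹) * w := by rw [e1]
      _ = _ := by group
  calc (h * d2 * h⁻¹)⁻¹ * (w⁻¹ * x * d1) * rr ε k l * ((h * d2 * h⁻¹)⁻¹ * (w⁻¹ * x * d1))⁻¹
      = (h * d2 * h⁻¹)⁻¹ * ((w⁻¹ * x * d1) * rr ε k l * (w⁻¹ * x * d1)⁻¹) * (h * d2 * h⁻¹) := by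
        group
    _ = (h * d2 * h⁻¹)⁻¹ * e * (h * d2 * h⁻¹) := by rw [← h4]
    _ = h * (d2⁻¹ * rr ε p q * d2) * h⁻¹ := by rw [he]; group
    _ = _ := by rw [← e2]; group

end

section

variable [Finite G] (hG : IsCharacteristicTwoType G) (b : SixF V L ε W) (hodd : Odd n) (hn : 7 ≤ n)
  (S : Sylow 2 G) (hS : (S : Subgroup G) ≤ L) {o : Fin n}
  (ho : ∀ s ∈ (S : Subgroup G), s * zz ε o = zz ε o * s)
include hG b hodd hn hS ho

/-- (6): `V^h ≤ V Σ` for `h ∈ N_ij` -/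
theorem conj_V_le {i j : Fin n} (hij : i ≠ j) {h v : G} (hh : h ∈ NN ε i j) (hv : v ∈ V) :
    h⁻¹ * v * h ∈ BB V ε := by
  have hb := b.toBase
  obtain ⟨k, l, hkl, ⟨ki, kj, -, -⟩, li, lj, -, -⟩ := exists_off (by omega) i j i j
  by_cases hno : ∃ d ∈ DD ε W i j, d * rr ε k l * d⁻¹ = h * rr ε k l * h⁻¹
  · -- `h ∈ D' Y ≤ Γ`
    obtain ⟨d, hd, h1⟩ := hno
    have h2 : d⁻¹ * h ∈ NN ε k l := by
      rw [mem_NN']
      calc d⁻¹ * h * rr ε k l * (d⁻¹ * h)⁻¹ = d⁻¹ * (h * rr ε k l * h⁻¹) * d := by group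
        _ = rr ε k l := by rw [← h1]; group
    have h3 : d⁻¹ * h ∈ NN ε i j := mul_mem (inv_mem (dd_le_NN hb i j hd)) hh
    have h4 : d⁻¹ * h ∈ normalizer (BB V ε : Set G) := two_norm hb hodd hn hij hkl ki kj li lj h3 h2
    have h5 : h ∈ normalizer (BB V ε : Set G) := by
      have := mul_mem (dd_le hb hodd hn hij hd) h4
      rwa [mul_inv_cancel_left] at this
    have h6 := (mem_normalizer_iff.mp (inv_mem h5) v).mp (v_le_BB hv)
    rwa [inv_inv] at h6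
  · -- every `r_pq^h` is in `⟨r_ij⟩ Σ`
    have hval : ∀ p q, p ≠ q → p ≠ i → p ≠ j → q ≠ i → q ≠ j →
        h * rr ε p q * h⁻¹ ∈ SG ε ∨ ∃ s ∈ SG ε, h * rr ε p q * h⁻¹ = rr ε i j * s := by
      intro p q hpq pi pj qi qj
      have heU : h * rr ε p q * h⁻¹ ∈ UU ε i j := UU_normal hh (rr_mem_UU pi pj qi qj)
      have heB := uu_le_BB hG b hodd hn S hS ho hij heU
      obtain ⟨v0, hv0, s, hs, hvs⟩ := (mem_BB hb (by omega)).mp heB
      obtain ⟨y, rfl⟩ := b.ev.surj v0 hv0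
      have hfix : ∀ a c, a ≠ c → ∀ w ∈ W a c, w * (h * rr ε p q * h⁻¹) * w⁻¹ = h * rr ε p q * h⁻¹ →
          w * ε y * w⁻¹ = ε y := by
        intro a c hac w hw h1
        rw [hvs] at h1
        have h2 : w * (ε y * s) * w⁻¹ = (w * ε y * w⁻¹) * (w * s * w⁻¹) := by group
        rw [h2, sg_cen hb hs hac hw] at h1
        exact mul_right_cancel h1
      have h1 : y i = y j := by
        obtain ⟨w, hw, hws⟩ := b.mov i j hij
        refine coord b.ev (by omega) hws (hfix i j hij w hw ?_)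
        rw [mul_inv_eq_iff_eq_mul]
        exact (b.cen i j hij _ heU w hw).symm
      have h2 : ∀ a c, a ≠ c → a ≠ i → a ≠ j → c ≠ i → c ≠ j → y a = y c := by
        intro a c hac ai aj ci cj
        obtain ⟨w, hw, hws⟩ := b.mov a c hac
        exact coord b.ev (by omega) hws (hfix a c hac w hw
          (perp hb hn hij hkl ki kj li lj hh hno hpq pi pj qi qj hac ai aj ci cj hw))
      rcases two_values b.ev hij h1 h2 with h3 | h3
      · left
        rw [hvs, h3, one_mul]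
        exact hs
      · right
        exact ⟨s, hs, by rw [hvs, h3]⟩
    -- one of them is in `Σ`
    obtain ⟨p, q, hpq, ⟨pi, pj⟩, ⟨qi, qj⟩, hpqS⟩ : ∃ p q, p ≠ q ∧ (p ≠ i ∧ p ≠ j) ∧ (q ≠ i ∧ q ≠ j) ∧
        h * rr ε p q * h⁻¹ ∈ SG ε := by
      obtain ⟨p, q, r, hpq, hpr, hqr, ⟨p1, p2, -, -⟩, ⟨q1, q2, -, -⟩, ⟨r1, r2, -, -⟩⟩ :=
        exists_three hn i j i j
      rcases hval p q hpq p1 p2 q1 q2 with h1 | ⟨s1, hs1, h1⟩
      · exact ⟨p, q, hpq, ⟨p1, p2⟩, ⟨q1, q2⟩, h1⟩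
      rcases hval q r hqr q1 q2 r1 r2 with h2 | ⟨s2, hs2, h2⟩
      · exact ⟨q, r, hqr, ⟨q1, q2⟩, ⟨r1, r2⟩, h2⟩
      refine ⟨p, r, hpr, ⟨p1, p2⟩, ⟨r1, r2⟩, ?_⟩
      have h3 : h * rr ε p r * h⁻¹ = (h * rr ε p q * h⁻¹) * (h * rr ε q r * h⁻¹) := by
        rw [← rr_add b.ev p q r]
        group
      have h4 := sg_comm hb (by omega) hs1 (rr_mem b.ev i j)
      have h5 : h * rr ε p r * h⁻¹ = s1 * s2 := by
        rw [h3, h1, h2]
        calc rr ε i j * s1 * (rr ε i j * s2) = rr ε i j * (s1 * rr ε i j) * s2 := by group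
          _ = rr ε i j * (rr ε i j * s1) * s2 := by rw [h4]
          _ = (rr ε i j * rr ε i j) * (s1 * s2) := by group
          _ = s1 * s2 := by rw [rr_sq b.ev, one_mul]
      rw [h5]
      exact mul_mem hs1 hs2
    -- `h⁻¹ r_ac h ∈ U_pq`
    have hr : ∀ a c, a ≠ c → h⁻¹ * rr ε a c * h ∈ BB V ε := by
      intro a c hac
      obtain ⟨f, hf, hfr⟩ := trans_sg hb (i := i) (j := j) hij hac
      have h1 : h⁻¹ * f * h ∈ NN ε p q := by
        rw [mem_NN']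
        calc h⁻¹ * f * h * rr ε p q * (h⁻¹ * f * h)⁻¹ = h⁻¹ * (f * (h * rr ε p q * h⁻¹) * f⁻¹) * h := by
              group
          _ = rr ε p q := by rw [hf _ hpqS]; group
      have h2 : h⁻¹ * rr ε i j * h = rr ε i j := by
        have := mem_NN'.mp (inv_mem hh)
        rwa [inv_inv] at this
      have h3 : h⁻¹ * rr ε a c * h = (h⁻¹ * f * h) * rr ε i j * (h⁻¹ * f * h)⁻¹ := by
        rw [← hfr]
        calc h⁻¹ * (f * rr ε i j * f⁻¹) * h = (h⁻¹ * f * h) * (h⁻¹ * rr ε i j * h) * (h⁻¹ * f * h)⁻¹ := by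
              group
          _ = _ := by rw [h2]
      rw [h3]
      exact uu_le_BB hG b hodd hn S hS ho hpq
        (UU_normal h1 (rr_mem_UU (Ne.symm pi) (Ne.symm qi) (Ne.symm pj) (Ne.symm qj)))
    have hV : V ≤ (BB V ε).comap (MulAut.conj h⁻¹).toMonoidHom := by
      have hc : ∀ x, (MulAut.conj h⁻¹).toMonoidHom x = h⁻¹ * x * h := by
        intro x
        change h⁻¹ * x * h⁻¹⁻¹ = _
        rw [inv_inv]
      refine v_le_of_zz b.ev fun m => ?_
      obtain ⟨a, c, hac, ⟨am, -, -, -⟩, cm, -, -, -⟩ := exists_off (by omega) m m m m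
      refine zz_mem_of_rr b.ev hodd (by omega) hac ?_ ?_ am.symm cm.symm
      · rw [mem_comap, hc]
        exact hr a c hac
      · intro a' c' hac' _ _ _ _
        rw [mem_comap, hc]
        exact hr a' c' hac'
    have h1 := hV hv
    rw [mem_comap] at h1
    change h⁻¹ * v * h⁻¹⁻¹ ∈ BB V ε at h1
    rwa [inv_inv] at h1

/-- **THEOREM**: `C_G(r_ij) ≤ N_G(V Σ)` -/
theorem nn_le {i j : Fin n} (hij : i ≠ j) : NN ε i j ≤ GG V ε := by
  have hb := b.toBase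
  intro h hh
  refine mem_normalizer_of_le fun x hx => ?_
  obtain ⟨v, hv, s, hs, rfl⟩ := (mem_BB hb (by omega)).mp hx
  have h1 := conj_V_le hG b hodd hn S hS ho hij (inv_mem hh) hv
  rw [inv_inv] at h1
  have h2 : h * s * h⁻¹ ∈ BB V ε :=
    uu_le_BB hG b hodd hn S hS ho hij (UU_normal hh (hs i j hij))
  have h3 : h * (v * s) * h⁻¹ = (h * v * h⁻¹) * (h * s * h⁻¹) := by group
  rw [h3]
  exact mul_mem h1 h2

/-- `V` and `V^h` commute, `h ∈ C_G(r_ij)` -/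
theorem conj_comm {i j : Fin n} (hij : i ≠ j) {h v v' : G} (hh : h ∈ NN ε i j) (hv : v ∈ V)
    (hv' : v' ∈ V) : v * (h * v' * h⁻¹) = (h * v' * h⁻¹) * v :=
  bb_comm b.toBase (by omega) (v_le_BB hv)
    ((mem_normalizer_iff.mp (nn_le hG b hodd hn S hS ho hij hh) v').mp (v_le_BB hv'))

/-- **no T-T pair** -/
theorem SixF.false (htt : ∃ i j, i ≠ j ∧ ∃ h ∈ NN ε i j, ∃ v ∈ V, ∃ v' ∈ V,
    v * (h * v' * h⁻¹) ≠ (h * v' * h⁻¹) * v) : False := by
  obtain ⟨i, j, hij, h, hh, v, hv, v', hv', hne⟩ := htt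
  exact hne (conj_comm hG b hodd hn S hS ho hij hh hv hv')

end

end Cfsg.Agent.Omega.NSix.Free
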