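import Cfsg.Agent.Omega.NSix.Free.Good

/-!
# OMEGA N6 / LeafF4 (O4), #17439 (helper300), (1): `U_12 ∩ U_34 ≤ V Σ`

`SG ε = ⋂ U_p` (`Σ`), `BB V ε = V Σ`.  `inter`: `U_ij ∩ U_kl ≤ V Σ` for disjoint pairs.
-/

set_option autoImplicit false

namespace Cfsg.Agent.Omega.NSix.Free

open Subgroup Cfsg Cfsg.Agent.ZN Cfsg.Agent.MinSimple.VModule
open Cfsg.Agent.Omega.S5.Def Cfsg.Agent.Omega.NSix.Base Cfsg.Agent.Omega.NSix.Basic
open Cfsg.Agent.Omega.NSix.One
open Cfsg.Agent.Omega.NSix.End.Six (exists_off)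

universe u

variable {G : Type u} [Group G] {n : ℕ} {V L : Subgroup G} {ε : (Fin n → ZMod 2) → G}
  {W : Fin n → Fin n → Subgroup G}

/-- `Σ = ⋂ U_p` -/
def SG (ε : (Fin n → ZMod 2) → G) : Subgroup G where
  carrier := {x | ∀ i j, i ≠ j → x ∈ UU ε i j}
  one_mem' := fun _ _ _ => one_mem _
  mul_mem' := fun hx hy i j hij => mul_mem (hx i j hij) (hy i j hij)
  inv_mem' := fun hx i j hij => inv_mem (hx i j hij)

theorem mem_SG {x : G} : x ∈ SG ε ↔ ∀ i j, i ≠ j → x ∈ UU ε i j := Iff.rfl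

/-- `B = V Σ` -/
def BB (V : Subgroup G) (ε : (Fin n → ZMod 2) → G) : Subgroup G := V ⊔ SG ε

theorem v_le_BB : V ≤ BB V ε := le_sup_left

theorem sg_le_BB : SG ε ≤ BB V ε := le_sup_right

theorem sg_conj {g : G} {σ : Equiv.Perm (Fin n)} (hg : Acts ε g σ) {x : G} (hx : x ∈ SG ε) :
    g * x * g⁻¹ ∈ SG ε := by
  intro i j hij
  have h1 := UU_conj hg (hx (σ⁻¹ i) (σ⁻¹ j) (fun h => hij (σ⁻¹.injective h)))
  have e : ∀ m, σ (σ⁻¹ m) = m := fun m => σ.apply_symm_apply m
  rwa [e, e] at h1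

theorem sg_cen (b : Base V L ε W) {x : G} (hx : x ∈ SG ε) {i j : Fin n} (hij : i ≠ j) {w : G}
    (hw : w ∈ W i j) : w * x * w⁻¹ = x := by
  rw [mul_inv_eq_iff_eq_mul]
  exact (b.cen i j hij x (hx i j hij) w hw).symm

theorem exists_ne (hn : 2 ≤ n) : ∃ i j : Fin n, i ≠ j :=
  ⟨⟨0, by omega⟩, ⟨1, by omega⟩, by intro h; simp at h⟩

theorem sg_comm (b : Base V L ε W) (hn : 2 ≤ n) {x v : G} (hx : x ∈ SG ε) (hv : v ∈ V) :
    x * v = v * x := by
  obtain ⟨i, j, hij⟩ := exists_ne hn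
  exact b.cen i j hij x (hx i j hij) v (b.Vle i j hij hv)

theorem sg_sg (b : Base V L ε W) (hn : 2 ≤ n) {x y : G} (hx : x ∈ SG ε) (hy : y ∈ SG ε) :
    x * y = y * x := by
  obtain ⟨i, j, hij⟩ := exists_ne hn
  exact uu_comm b hij (hx i j hij) (hy i j hij)

theorem mem_BB (b : Base V L ε W) (hn : 2 ≤ n) {x : G} :
    x ∈ BB V ε ↔ ∃ v ∈ V, ∃ s ∈ SG ε, x = v * s := by
  constructor
  · intro hx
    have hle : V ≤ normalizer (SG ε : Set G) := by
      intro v hv
      rw [mem_normalizer_iff]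
      intro s
      constructor
      · intro hs
        rw [← sg_comm b hn hs hv, mul_inv_cancel_right]
        exact hs
      · intro hs
        have h1 := sg_comm b hn hs hv
        have h2 : v * s = v * s * v⁻¹ * v := by group
        have h3 : s = v⁻¹ * (v * s * v⁻¹) * v := by group
        have h4 : v⁻¹ * (v * s * v⁻¹) * v = v * s * v⁻¹ := by
          rw [mul_assoc, h1]; group
        rw [h3, h4]
        exact hs
    have h1 : x ∈ ((V ⊔ SG ε : Subgroup G) : Set G) := hx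
    rw [coe_mul_of_left_le_normalizer_right _ _ hle] at h1
    obtain ⟨v, hv, s, hs, h2⟩ := h1
    exact ⟨v, hv, s, hs, h2.symm⟩
  · rintro ⟨v, hv, s, hs, rfl⟩
    exact mul_mem (v_le_BB hv) (sg_le_BB hs)

theorem bb_comm (b : Base V L ε W) (hn : 2 ≤ n) {x y : G} (hx : x ∈ BB V ε) (hy : y ∈ BB V ε) :
    x * y = y * x := by
  obtain ⟨v, hv, s, hs, rfl⟩ := (mem_BB b hn).mp hx
  obtain ⟨v', hv', s', hs', rfl⟩ := (mem_BB b hn).mp hy
  calc v * s * (v' * s') = v * (s * v') * s' := by group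
    _ = v * (v' * s) * s' := by rw [sg_comm b hn hs hv']
    _ = (v * v') * (s * s') := by group
    _ = (v' * v) * (s' * s) := by rw [b.ev.comm_mem hv hv', sg_sg b hn hs hs']
    _ = v' * (v * s') * s := by group
    _ = v' * (s' * v) * s := by rw [sg_comm b hn hs' hv]
    _ = _ := by group

theorem bb_sq (b : Base V L ε W) (hn : 2 ≤ n) {x : G} (hx : x ∈ BB V ε) : x * x = 1 := by
  obtain ⟨i, j, hij⟩ := exists_ne hn
  obtain ⟨v, hv, s, hs, rfl⟩ := (mem_BB b hn).mp hx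
  calc v * s * (v * s) = v * (s * v) * s := by group
    _ = v * (v * s) * s := by rw [sg_comm b hn hs hv]
    _ = (v * v) * (s * s) := by group
    _ = 1 := by rw [b.ev.sq_mem hv, uu_sq b hij (hs i j hij), one_mul]

/-! ### coordinates -/

theorem exists_third (hn : 3 ≤ n) (i j : Fin n) : ∃ k : Fin n, k ≠ i ∧ k ≠ j := by
  obtain ⟨k, -, hk⟩ := Finset.exists_mem_notMem_of_card_lt_card (s := ({i, j} : Finset (Fin n)))
    (t := Finset.univ) (by
      rw [Finset.card_univ, Fintype.card_fin]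
      exact lt_of_le_of_lt Finset.card_le_two (by omega))
  simp only [Finset.mem_insert, Finset.mem_singleton, not_or] at hk
  exact ⟨k, hk.1, hk.2⟩

theorem coord (h : EvenSet n V L ε) (hn : 3 ≤ n) {i j : Fin n} {w : G}
    (hw : Acts ε w (Equiv.swap i j)) {y : Fin n → ZMod 2} (hf : w * ε y * w⁻¹ = ε y) : y i = y j := by
  have h2 : ε (y ∘ (Equiv.swap i j).symm) = ε y := by rw [← hw y, hf]
  rcases h.eq_iff.mp h2 with h3 | h3
  · have h4 := congrFun h3 i
    rw [Function.comp_apply, Equiv.symm_swap, Equiv.swap_apply_left] at h4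
    exact h4.symm
  · obtain ⟨k, k1, k2⟩ := exists_third hn i j
    have h4 := congrFun h3 k
    rw [Function.comp_apply, Equiv.symm_swap, Equiv.swap_apply_of_ne_of_ne k1 k2,
      Pi.add_apply, Pi.one_apply] at h4
    exact absurd (left_eq_add.mp h4) (by decide)

theorem mem_uu_zero (h : EvenSet n V L ε) {i j : Fin n} {y : Fin n → ZMod 2}
    (hi : y i = 0) (hj : y j = 0) : ε y ∈ UU ε i j := by
  have key : ∀ S : Finset (Fin n), i ∉ S → j ∉ S → ε (∑ k ∈ S, Pi.single k 1) ∈ UU ε i j := by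
    intro S
    induction S using Finset.induction_on with
    | empty => intro _ _; rw [Finset.sum_empty, h.zero]; exact one_mem _
    | insert k S hk ih =>
      intro h1 h2
      rw [Finset.mem_insert, not_or] at h1 h2
      rw [Finset.sum_insert hk, h.add]
      exact mul_mem (zz_mem_UU (Ne.symm h1.1) (Ne.symm h2.1)) (ih h1.2 h2.2)
  have h1 : y = ∑ k ∈ Finset.univ.filter (fun k => y k ≠ 0), Pi.single k 1 := by
    funext m
    rw [Finset.sum_apply]
    by_cases hm : y m = 0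
    · rw [hm, Finset.sum_eq_zero]
      intro k hk
      have : m ≠ k := by
        rintro rfl
        exact (Finset.mem_filter.mp hk).2 hm
      exact Pi.single_eq_of_ne this _
    · rw [Finset.sum_eq_single m]
      · rw [Pi.single_eq_same]; exact Tv.z2_one hm
      · intro k _ hk
        exact Pi.single_eq_of_ne (Ne.symm hk) _
      · intro h0
        exfalso
        apply h0
        rw [Finset.mem_filter]
        exact ⟨Finset.mem_univ _, hm⟩
  rw [h1]
  exact key _ (by simp [hi]) (by simp [hj])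

theorem mem_uu_coord (h : EvenSet n V L ε) {i j : Fin n} {y : Fin n → ZMod 2}
    (hy : y i = y j) : ε y ∈ UU ε i j := by
  rcases Tv.z2 (y i) with h0 | h0
  · exact mem_uu_zero h h0 (by rw [← hy, h0])
  · have h1 : ε (y + 1) = ε y := by rw [h.add, h.one, mul_one]
    rw [← h1]
    refine mem_uu_zero h ?_ ?_
    · rw [Pi.add_apply, h0, Pi.one_apply]; decide
    · rw [Pi.add_apply, ← hy, h0, Pi.one_apply]; decide

/-- an element of `V` which is fixed by the transposition `(i j)` is in `U_ij` -/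
theorem v_mem_uu (h : EvenSet n V L ε) (hn : 3 ≤ n) {i j : Fin n} {w v : G}
    (hw : Acts ε w (Equiv.swap i j)) (hv : v ∈ V) (hf : w * v * w⁻¹ = v) : v ∈ UU ε i j := by
  obtain ⟨y, rfl⟩ := h.surj v hv
  exact mem_uu_coord h (coord h hn hw hf)

/-! ### spreading -/

/-- the letters in `P` can be exchanged -/
theorem spread_swap (b : Base V L ε W) {P : Fin n → Prop} {x : G}
    (hx : ∀ a c, P a → P c → a ≠ c → ∀ w ∈ W a c, w * x * w⁻¹ = x) {k l p q : Fin n}
    (hp : P p) (hq : P q) (hkl : x ∈ UU ε k l) : x ∈ UU ε (Equiv.swap p q k) (Equiv.swap p q l) := by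
  by_cases hpq : p = q
  · subst hpq
    rw [Equiv.swap_self]
    exact hkl
  · obtain ⟨w, hw, hws⟩ := b.mov p q hpq
    have h1 := UU_conj hws hkl
    rwa [hx p q hp hq hpq w hw] at h1

theorem spread (b : Base V L ε W) {P : Fin n → Prop} {x : G}
    (hx : ∀ a c, P a → P c → a ≠ c → ∀ w ∈ W a c, w * x * w⁻¹ = x) {k l a c : Fin n}
    (hk : P k) (hl : P l) (ha : P a) (hc : P c) (hkl' : k ≠ l) (hac : a ≠ c)
    (hkl : x ∈ UU ε k l) : x ∈ UU ε a c := by
  have key : ∀ {k l c : Fin n}, P k → P l → P c → k ≠ l → k ≠ c → x ∈ UU ε k l → x ∈ UU ε k c := by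
    intro k l c _ hl hc hkl hkc h
    have h1 := spread_swap b hx hl hc h
    rwa [Equiv.swap_apply_of_ne_of_ne hkl hkc, Equiv.swap_apply_left] at h1
  by_cases h1 : a = k
  · subst h1
    exact key hk hl hc hkl' hac hkl
  by_cases h2 : a = l
  · subst h2
    rw [UU_symm b.ev] at hkl
    exact key hl hk hc hkl'.symm hac hkl
  · have h3 := key hk hl ha hkl' (Ne.symm h1) hkl
    rw [UU_symm b.ev] at h3
    exact key ha hk hc h1 hac h3

/-- an element of some `U_p` fixed by all `W_q` is in `Σ` -/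
theorem fix_mem_SG (b : Base V L ε W) {x : G} {k l : Fin n} (hkl' : k ≠ l)
    (hx : ∀ a c, a ≠ c → ∀ w ∈ W a c, w * x * w⁻¹ = x) (hkl : x ∈ UU ε k l) : x ∈ SG ε :=
  fun _ _ hac => spread b (P := fun _ => True) (fun a c _ _ h => hx a c h) trivial trivial trivial
    trivial hkl' hac hkl

section

variable [Finite G] (b : Base V L ε W) (hodd : Odd n) (hn : 7 ≤ n)
include b hodd hn

/-- elements of `U_ij` are good for the pairs disjoint from `{i, j}` -/
theorem goodAt_of_disj {i j a c : Fin n} (hij : i ≠ j) (hac : a ≠ c) (ai : a ≠ i) (aj : a ≠ j)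
    (ci : c ≠ i) (cj : c ≠ j) {u : G} (hu : u ∈ UU ε i j) : GoodAt ε W u a c where
  triv := fun _ hw hw1 => one b hodd hn hij hac ai aj ci cj hw hw1 hu
  act := fun w hw => b.tra i j a c hij hac ai.symm ci.symm aj.symm cj.symm u hu w hw

/-- an element of `U_ij` is fixed by all `W_q` up to an element of `V`, once it is good for all
pairs; then it is in `V Σ` -/
theorem good_mem_BB {i j : Fin n} (hij : i ≠ j) {u : G} (hu : u ∈ UU ε i j)
    (hg : ∀ a c, a ≠ c → GoodAt ε W u a c) : u ∈ BB V ε := by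
  obtain ⟨y, -, hy⟩ := exists_fix_on b (by omega) (P := fun _ => True) (t := u)
    (fun a c _ _ h => hg a c h)
  have hy' : ∀ a c, a ≠ c → ∀ w ∈ W a c, w * (u * ε y) * w⁻¹ = u * ε y :=
    fun a c h => hy a c trivial trivial h
  obtain ⟨w, hw, hws⟩ := b.mov i j hij
  have h1 : w * u * w⁻¹ = u := by
    rw [mul_inv_eq_iff_eq_mul]
    exact (b.cen i j hij u hu w hw).symm
  have h2 : w * ε y * w⁻¹ = ε y := by
    have h3 := hy' i j hij w hw
    have h4 : w * (u * ε y) * w⁻¹ = (w * u * w⁻¹) * (w * ε y * w⁻¹) := by group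
    rw [h4, h1] at h3
    exact mul_left_cancel h3
  have h3 : ε y ∈ UU ε i j := v_mem_uu b.ev (by omega) hws (b.ev.mem y) h2
  have h4 : u * ε y ∈ SG ε := fix_mem_SG b hij hy' (mul_mem hu h3)
  have h5 : u = (u * ε y) * (ε y)⁻¹ := by group
  rw [h5]
  exact mul_mem (sg_le_BB h4) (inv_mem (v_le_BB (b.ev.mem y)))

/-- **(1)**: `U_ij ∩ U_kl ≤ V Σ` for disjoint pairs -/
theorem inter {i j k l : Fin n} (hij : i ≠ j) (hkl : k ≠ l) (ki : k ≠ i) (kj : k ≠ j) (li : l ≠ i)
    (lj : l ≠ j) {u : G} (h1 : u ∈ UU ε i j) (h2 : u ∈ UU ε k l) : u ∈ BB V ε := by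
  obtain ⟨y, hy0, hy⟩ := exists_fix_on b (by omega) (P := fun m => m ≠ i ∧ m ≠ j) (t := u)
    (fun a c ha hc hac => goodAt_of_disj b hodd hn hij hac ha.1 ha.2 hc.1 hc.2 h1)
  have hyi : y i = 0 := hy0 i (fun h => h.1 rfl)
  have hyj : y j = 0 := hy0 j (fun h => h.2 rfl)
  have hyU : ε y ∈ UU ε i j := mem_uu_zero b.ev hyi hyj
  obtain ⟨w, hw, hws⟩ := b.mov k l hkl
  have h3 : w * u * w⁻¹ = u := by
    rw [mul_inv_eq_iff_eq_mul]
    exact (b.cen k l hkl u h2 w hw).symm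
  have h4 : w * ε y * w⁻¹ = ε y := by
    have h3' := hy k l ⟨ki, kj⟩ ⟨li, lj⟩ hkl w hw
    have h4 : w * (u * ε y) * w⁻¹ = (w * u * w⁻¹) * (w * ε y * w⁻¹) := by group
    rw [h4, h3] at h3'
    exact mul_left_cancel h3'
  have h5 : ε y ∈ UU ε k l := v_mem_uu b.ev (by omega) hws (b.ev.mem y) h4
  set x := u * ε y with hx
  have hx1 : x ∈ UU ε i j := mul_mem h1 hyU
  have hx2 : x ∈ UU ε k l := mul_mem h2 h5
  have hx3 : ∀ a c, a ≠ i ∧ a ≠ j → c ≠ i ∧ c ≠ j → a ≠ c → x ∈ UU ε a c := fun a c ha hc hac =>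
    spread b (P := fun m => m ≠ i ∧ m ≠ j) hy ⟨ki, kj⟩ ⟨li, lj⟩ ha hc hkl hac hx2
  have hx4 : x ∈ BB V ε := by
    refine good_mem_BB b hodd hn hij hx1 fun a c hac => ?_
    obtain ⟨p, q, hpq, ⟨p1, p2, p3, p4⟩, q1, q2, q3, q4⟩ := exists_off (by omega) i j a c
    exact goodAt_of_disj b hodd hn hpq hac p3.symm q3.symm p4.symm q4.symm
      (hx3 p q ⟨p1, p2⟩ ⟨q1, q2⟩ hpq)
  have h6 : u = x * (ε y)⁻¹ := by rw [hx]; group
  rw [h6]
  exact mul_mem hx4 (inv_mem (v_le_BB (b.ev.mem y)))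

end

end Cfsg.Agent.Omega.NSix.Free
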