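import Cfsg.Agent.Omega.NSix.Free.Norm
import Cfsg.Agent.MinSimple.Geo
import Cfsg.Agent.Omega.MinPar

/-!
# OMEGA N6 / LeafF4 (O4), #17439 (helper300), (4), (5)

`SixF V L ε W`: `Base`, (H2) `U_ij ≤ O₂(N_kl)`, `[O₂(N_ij), W_ij] ≤ ⟨r_ij⟩`, `[O₂(N_ij), U_ij] = 1`.
`GG V ε = N_G(V Σ)`.  For `S ≤ L` a Sylow 2-subgroup centralising a point, in characteristic 2 type:
`uu_le_O`: `U_ij ≤ O₂(GG) ≤ O₂(N_kl)`; `uu_le_BB`: `U_ij ≤ V Σ`.
-/

set_option autoImplicit false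

namespace Cfsg.Agent.Omega.NSix.Free

open Subgroup Cfsg
open Cfsg.Agent.ZN (o2)
open Cfsg.Agent.MinSimple.VModule (o2_le o2_isPGroup le_normalizer_o2 le_o2)
open Cfsg.Agent.MinSimple.Geo (inf_centralizer_o2_le)
open Cfsg.Agent.Omega.S5.Def Cfsg.Agent.Omega.NSix.Base Cfsg.Agent.Omega.NSix.Basic
open Cfsg.Agent.Omega.NSix.One
open Cfsg.Agent.Omega.NSix.End (uu_cenV uu_acts cenV_NN)
open Cfsg.Agent.Omega.NSix.End.Six (exists_off norm_o2 norm_cen uu_norm)

universe u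

variable {G : Type u} [Group G] {n : ℕ} {V L : Subgroup G} {ε : (Fin n → ZMod 2) → G}
  {W : Fin n → Fin n → Subgroup G}

/-- the situation (H1), (H2), without minimality of `V` -/
structure SixF (V L : Subgroup G) (ε : (Fin n → ZMod 2) → G) (W : Fin n → Fin n → Subgroup G) :
    Prop extends Base V L ε W where
  hq : ∀ i j k l, i ≠ j → k ≠ l → i ≠ k → i ≠ l → j ≠ k → j ≠ l → UU ε i j ≤ o2 (NN ε k l)
  qc : ∀ i j, i ≠ j → ∀ x ∈ o2 (NN ε i j), ∀ w ∈ W i j,
    w * x * w⁻¹ = x ∨ w * x * w⁻¹ = x * rr ε i j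
  uq : ∀ i j, i ≠ j → ∀ u ∈ UU ε i j, ∀ q ∈ o2 (NN ε i j), u * q = q * u

/-- `Γ = N_G(V Σ)` -/
def GG (V : Subgroup G) (ε : (Fin n → ZMod 2) → G) : Subgroup G := normalizer (BB V ε : Set G)

theorem uu_two (b : Base V L ε W) {i j : Fin n} (hij : i ≠ j) : IsPGroup 2 (UU ε i j) := by
  intro u
  refine ⟨1, ?_⟩
  rw [pow_one, pow_two]
  exact Subtype.ext (uu_sq b hij u.2)

theorem uu_le_NN (b : Base V L ε W) {i j : Fin n} (hij : i ≠ j) (k l : Fin n) :
    UU ε i j ≤ NN ε k l := fun _ hu => cenV_NN b k l (uu_cenV b hij hu)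

theorem bb_two (b : Base V L ε W) (hn : 2 ≤ n) : IsPGroup 2 (BB V ε) := by
  intro u
  refine ⟨1, ?_⟩
  rw [pow_one, pow_two]
  exact Subtype.ext (bb_sq b hn u.2)

theorem bb_ne (b : Base V L ε W) (hn : 3 ≤ n) : BB V ε ≠ ⊥ := by
  intro h
  have h1 : zz ε ⟨0, by omega⟩ ∈ BB V ε := v_le_BB (zz_mem b.ev _)
  rw [h, mem_bot] at h1
  exact zz_ne_one b.ev hn _ h1

theorem gg_local (b : Base V L ε W) (hn : 3 ≤ n) : IsTwoLocal (GG V ε) :=
  ⟨BB V ε, bb_two b (by omega), bb_ne b hn, rfl⟩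

theorem l_le_GG [Finite G] (b : Base V L ε W) : L ≤ GG V ε := by
  intro g hg
  obtain ⟨σ, hσ⟩ := b.ev.perm g hg
  refine mem_normalizer_of_le fun x hx => ?_
  have h1 : BB V ε ≤ (BB V ε).comap (MulAut.conj g).toMonoidHom := by
    refine sup_le ?_ ?_
    · intro v hv
      exact v_le_BB ((mem_normalizer_iff.mp (b.ev.le_normalizer hg) v).mp hv)
    · intro s hs
      exact sg_le_BB (sg_conj hσ hs)
  exact h1 hx

section

variable [Finite G] (hG : IsCharacteristicTwoType G) (b : SixF V L ε W) (hodd : Odd n) (hn : 7 ≤ n)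
  (S : Sylow 2 G) (hS : (S : Subgroup G) ≤ L) {o : Fin n}
  (ho : ∀ s ∈ (S : Subgroup G), s * zz ε o = zz ε o * s)

include b hS ho in
/-- `O₂(Γ)` centralises `V` -/
theorem o_cenV : o2 (GG V ε) ≤ centralizer (V : Set G) := by
  have hLG := l_le_GG b.toBase
  have hOS : o2 (GG V ε) ≤ (S : Subgroup G) :=
    MinPar.le_of_le_normalizer S (o2_isPGroup _) ((hS.trans hLG).trans (le_normalizer_o2 _))
  intro q hq
  have hz : ∀ m, zz ε m ∈ centralizer ({q} : Set G) := by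
    intro m
    rw [mem_centralizer_singleton_iff]
    obtain ⟨g, hg, hgs⟩ := b.ev.full (Equiv.swap o m)
    have h1 : g⁻¹ * q * g⁻¹⁻¹ ∈ o2 (GG V ε) :=
      (mem_normalizer_iff.mp (le_normalizer_o2 _ (inv_mem (hLG hg))) q).mp hq
    rw [inv_inv] at h1
    have h2 := ho _ (hOS h1)
    have h3 := zz_conj hgs o
    rw [Equiv.swap_apply_left] at h3
    rw [← h3]
    calc g * zz ε o * g⁻¹ * q = g * (zz ε o * (g⁻¹ * q * g)) * g⁻¹ := by group
      _ = g * ((g⁻¹ * q * g) * zz ε o) * g⁻¹ := by rw [h2]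
      _ = _ := by group
  rw [mem_centralizer_iff]
  intro v hv
  have h1 := v_le_of_zz b.ev hz hv
  rw [mem_centralizer_singleton_iff] at h1
  exact h1

include b hodd hn hS ho in
/-- `O₂(Γ)` centralises `U_ij` -/
theorem o_cenU {i j : Fin n} (hij : i ≠ j) {q u : G} (hq : q ∈ o2 (GG V ε)) (hu : u ∈ UU ε i j) :
    u * q = q * u := by
  have hb := b.toBase
  have hON : ∀ k l, o2 (GG V ε) ≤ NN ε k l := fun k l x hx =>
    cenV_NN hb k l (o_cenV b S hS ho hx)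
  have hDG : DD ε W i j ≤ GG V ε := dd_le hb hodd hn hij
  have hqN := hON i j hq
  -- `[O, D'] ≤ O₂(N)`
  have hcomm : ∀ x ∈ DD ε W i j, q * x * q⁻¹ * x⁻¹ ∈ o2 (NN ε i j) := by
    intro x hx
    have h1 : q * x * q⁻¹ * x⁻¹ ∈ o2 (GG V ε) ⊓ DD ε W i j := by
      refine Subgroup.mem_inf.mpr ⟨?_, ?_⟩
      · have h2 : x * q⁻¹ * x⁻¹ ∈ o2 (GG V ε) :=
          (mem_normalizer_iff.mp (le_normalizer_o2 _ (hDG hx)) _).mp (inv_mem hq)
        have h3 : q * x * q⁻¹ * x⁻¹ = q * (x * q⁻¹ * x⁻¹) := by group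
        rw [h3]
        exact mul_mem hq h2
      · exact mul_mem ((mem_normalizer_iff.mp (dd_normal hqN) x).mp hx) (inv_mem hx)
    have h2 : o2 (GG V ε) ⊓ DD ε W i j ≤ o2 (DD ε W i j) := by
      refine le_o2 inf_le_right ((o2_isPGroup _).to_le inf_le_left) ?_
      intro g hg
      refine mem_normalizer_of_le fun y hy => ?_
      obtain ⟨h3, h4⟩ := Subgroup.mem_inf.mp hy
      exact Subgroup.mem_inf.mpr ⟨(mem_normalizer_iff.mp (le_normalizer_o2 _ (hDG hg)) y).mp h3,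
        mul_mem (mul_mem hg h4) (inv_mem hg)⟩
    have h3 : o2 (DD ε W i j) ≤ o2 (NN ε i j) :=
      le_o2 ((o2_le _).trans (dd_le_NN hb i j)) (o2_isPGroup _) (dd_normal.trans (norm_o2 _))
    exact h3 (h2 h1)
  -- `O` centralises `K`
  have hK : ∀ k l, k ≠ l → k ≠ i → k ≠ j → l ≠ i → l ≠ j → ∀ g ∈ NN ε i j,
      q * (g * rr ε k l * g⁻¹) * q⁻¹ = g * rr ε k l * g⁻¹ := by
    intro k l hkl ki kj li lj g hg
    set c := g * rr ε k l * g⁻¹ with hc
    have wit : Wit ε i j c g k l := ⟨hg, hkl, ki, kj, li, lj, hc⟩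
    obtain ⟨w, hw, hws⟩ := b.mov k l hkl
    obtain ⟨m, m', -, ⟨mi, mj, mk, ml⟩, -⟩ := exists_off (by omega) i j k l
    set x := g * w * g⁻¹ with hx
    have hxc : Wc ε W i j c x := by
      rw [wc_iff hb wit]
      have : g⁻¹ * x * g = w := by rw [hx]; group
      rwa [this]
    have hcne : c ≠ 1 := kk_ne hb (by omega) (wc_kk hxc)
    set u0 := g * rr ε l m * g⁻¹ with hu0
    have hu0U : u0 ∈ UU ε i j := UU_normal hg (rr_mem_UU li lj mi mj)
    have hmove : x * u0 * x⁻¹ ≠ u0 := by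
      intro h1
      have h2 : w * rr ε l m * w⁻¹ = rr ε l m := by
        calc w * rr ε l m * w⁻¹ = g⁻¹ * (x * u0 * x⁻¹) * g := by rw [hx, hu0]; group
          _ = rr ε l m := by rw [h1, hu0]; group
      rw [rr_conj hws, Equiv.swap_apply_right, Equiv.swap_apply_of_ne_of_ne mk ml] at h2
      have h3 : rr ε k l = 1 := by
        have h4 := rr_add b.ev k m l
        rw [rr_symm b.ev m l, h2, rr_sq b.ev] at h4
        exact h4.symm
      exact rr_ne_one b.ev (by omega) hkl h3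
    have hmove2 := (wc_act hb hij hxc hu0U).resolve_left hmove
    set u1 := q * u0 * q⁻¹ with hu1
    have hu1U : u1 ∈ UU ε i j := UU_normal hqN hu0U
    have hxN := wc_NN hb hxc
    set y := q * x * q⁻¹ * x⁻¹ with hy
    have hyQ : y ∈ o2 (NN ε i j) := hcomm x (wc_le_DD hxc)
    have h1 : x * u1 * x⁻¹ = u1 * (q * c * q⁻¹) := by
      have h2 : (x * u1 * x⁻¹) * y = y * (x * u1 * x⁻¹) :=
        b.uq i j hij _ (UU_normal hxN hu1U) y hyQ
      calc x * u1 * x⁻¹ = (x * u1 * x⁻¹) * y * y⁻¹ := by group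
        _ = y * (x * u1 * x⁻¹) * y⁻¹ := by rw [h2]
        _ = q * (x * u0 * x⁻¹) * q⁻¹ := by rw [hy, hu1]; group
        _ = _ := by rw [hmove2, hu1]; group
    rcases wc_act hb hij hxc hu1U with h2 | h2
    · rw [h2] at h1
      have h3 : q * c * q⁻¹ = 1 := (mul_eq_left.mp h1.symm)
      exfalso
      apply hcne
      calc c = q⁻¹ * (q * c * q⁻¹) * q := by group
        _ = 1 := by rw [h3]; group
    · rw [h2] at h1
      exact (mul_left_cancel h1).symm
  -- `U_ij`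
  have hU : UU ε i j ≤ centralizer ({q} : Set G) := by
    unfold UU
    rw [closure_le]
    rintro x ⟨g, hg, m, mi, mj, rfl⟩
    have h1 : zz ε m ∈ (centralizer ({q} : Set G)).comap (MulAut.conj g).toMonoidHom := by
      refine zz_mem_of_rr b.ev hodd (by omega) hij ?_ ?_ mi mj
      · change g * rr ε i j * g⁻¹ ∈ centralizer ({q} : Set G)
        rw [mem_NN'.mp hg, mem_centralizer_singleton_iff]
        exact (mem_NN.mp hqN).symm
      · intro a c hac ai aj ci cj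
        change g * rr ε a c * g⁻¹ ∈ centralizer ({q} : Set G)
        rw [mem_centralizer_singleton_iff]
        have h2 := hK a c hac ai aj ci cj g hg
        rw [mul_inv_eq_iff_eq_mul] at h2
        exact h2.symm
    exact h1
  have h1 := hU hu
  rw [mem_centralizer_singleton_iff] at h1
  exact h1

/-- `C = C_G(U_ij) ∩ N_ij` -/
def CC (ε : (Fin n → ZMod 2) → G) (i j : Fin n) : Subgroup G :=
  NN ε i j ⊓ centralizer (UU ε i j : Set G)

omit [Finite G] in
theorem cc_normal (i j : Fin n) : NN ε i j ≤ normalizer (CC ε i j : Set G) := by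
  intro g hg
  have h1 := norm_cen _ (uu_norm (ε := ε) i j hg)
  rw [mem_normalizer_iff] at h1 ⊢
  intro x
  constructor
  · intro h
    obtain ⟨h2, h3⟩ := Subgroup.mem_inf.mp h
    exact Subgroup.mem_inf.mpr ⟨mul_mem (mul_mem hg h2) (inv_mem hg), (h1 x).mp h3⟩
  · intro h
    obtain ⟨h2, h3⟩ := Subgroup.mem_inf.mp h
    refine Subgroup.mem_inf.mpr ⟨?_, (h1 x).mpr h3⟩
    have h4 := mul_mem (mul_mem (inv_mem hg) h2) hg
    have h5 : g⁻¹ * (g * x * g⁻¹) * g = x := by group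
    rwa [h5] at h4

include b hodd hn in
theorem cc_le_GG {i j : Fin n} (hij : i ≠ j) : CC ε i j ≤ GG V ε := by
  intro g hg
  obtain ⟨h1, h2⟩ := Subgroup.mem_inf.mp hg
  obtain ⟨k, l, hkl, ⟨ki, kj, -, -⟩, li, lj, -, -⟩ := exists_off (by omega) i j i j
  refine two_norm b.toBase hodd hn hij hkl ki kj li lj h1 ?_
  rw [mem_NN]
  exact (mem_centralizer_iff.mp h2 _ (rr_mem_UU ki kj li lj)).symm

include b hodd hn hS ho in
/-- `O₂(Γ) ≤ O₂(N_ij)` -/
theorem o_le {i j : Fin n} (hij : i ≠ j) : o2 (GG V ε) ≤ o2 (NN ε i j) := by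
  have hb := b.toBase
  have hOC : o2 (GG V ε) ≤ CC ε i j := by
    intro q hq
    refine Subgroup.mem_inf.mpr ⟨cenV_NN hb i j (o_cenV b S hS ho hq), ?_⟩
    rw [mem_centralizer_iff]
    intro u hu
    exact o_cenU b hodd hn S hS ho hij hq hu
  have h1 : o2 (GG V ε) ≤ o2 (CC ε i j) :=
    le_o2 hOC (o2_isPGroup _) ((cc_le_GG b hodd hn hij).trans (le_normalizer_o2 _))
  have h2 : o2 (CC ε i j) ≤ o2 (NN ε i j) :=
    le_o2 ((o2_le _).trans inf_le_left) (o2_isPGroup _) ((cc_normal i j).trans (norm_o2 _))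
  exact h1.trans h2

include hG b hodd hn hS ho in
/-- `U_ij ≤ O₂(Γ)` -/
theorem uu_le_O {i j : Fin n} (hij : i ≠ j) : UU ε i j ≤ o2 (GG V ε) := by
  have hb := b.toBase
  intro u hu
  refine inf_centralizer_o2_le hG (gg_local hb (by omega)) (Subgroup.mem_inf.mpr ⟨?_, ?_⟩)
  · refine cc_le_GG b hodd hn hij (Subgroup.mem_inf.mpr ⟨uu_le_NN hb hij i j hu, ?_⟩)
    rw [mem_centralizer_iff]
    intro v hv
    exact uu_comm hb hij hv hu
  · rw [mem_centralizer_iff]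
    intro q hq
    exact (o_cenU b hodd hn S hS ho hij hq hu).symm

include hG b hodd hn hS ho in
theorem all_le {i j k l : Fin n} (hij : i ≠ j) (hkl : k ≠ l) : UU ε i j ≤ o2 (NN ε k l) :=
  (uu_le_O hG b hodd hn S hS ho hij).trans (o_le b hodd hn S hS ho hkl)

include hG b hodd hn hS ho in
/-- (5), the exchange -/
theorem exch {i j k : Fin n} (hij : i ≠ j) (hik : i ≠ k) (hjk : j ≠ k) {y : G}
    (hy : y ∈ UU ε i j) : ∃ v ∈ V, y * v ∈ UU ε k j := by
  obtain ⟨w, hw, hws⟩ := b.mov i k hik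
  have h1 := UU_conj hws hy
  rw [Equiv.swap_apply_left, swap_fix hij.symm hjk] at h1
  rcases b.qc i k hik y (all_le hG b hodd hn S hS ho hij hik hy) w hw with h2 | h2
  · rw [h2] at h1
    exact ⟨1, one_mem _, by rwa [mul_one]⟩
  · rw [h2] at h1
    exact ⟨_, rr_mem b.ev i k, h1⟩

include hG b hodd hn hS ho in
theorem move {i j k l : Fin n} (hij : i ≠ j) (hkl : k ≠ l) {y : G} (hy : y ∈ UU ε i j) :
    ∃ v ∈ V, y * v ∈ UU ε k l := by
  have key : ∀ {i j : Fin n}, i ≠ j → i ≠ l → ∀ {y : G}, y ∈ UU ε i j → i = k →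
      ∃ v ∈ V, y * v ∈ UU ε k l := by
    intro i j hij hil y hy hik
    subst hik
    by_cases h1 : j = l
    · subst h1
      exact ⟨1, one_mem _, by rwa [mul_one]⟩
    · rw [UU_symm b.ev] at hy ⊢
      exact exch hG b hodd hn S hS ho hij.symm h1 hil hy
  by_cases h1 : i = k
  · exact key hij (h1 ▸ hkl) hy h1
  by_cases h2 : j = k
  · rw [UU_symm b.ev] at hy
    exact key hij.symm (h2 ▸ hkl) hy h2
  · obtain ⟨v, hv, h3⟩ := exch hG b hodd hn S hS ho hij h1 h2 hy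
    obtain ⟨v', hv', h4⟩ := key (i := k) (j := j) (Ne.symm h2) hkl h3 rfl
    exact ⟨v * v', mul_mem hv hv', by rwa [← mul_assoc]⟩

include hG b hodd hn hS ho in
/-- **(5)**: `U_ij ≤ V Σ` -/
theorem uu_le_BB {i j : Fin n} (hij : i ≠ j) : UU ε i j ≤ BB V ε := by
  intro y hy
  refine good_mem_BB b.toBase hodd hn hij hy fun a c hac => ⟨?_, ?_⟩
  · intro w hw hw1
    obtain ⟨k, l, hkl, ⟨k1, k2, -, -⟩, l1, l2, -, -⟩ := exists_off (by omega) a c a c
    obtain ⟨v, hv, h1⟩ := move hG b hodd hn S hS ho hij hkl hy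
    have h2 := one b.toBase hodd hn hkl hac (Ne.symm k1) (Ne.symm l1) (Ne.symm k2) (Ne.symm l2)
      hw hw1 h1
    have h3 : w * v * w⁻¹ = v := by
      obtain ⟨x, rfl⟩ := b.ev.surj v hv
      exact hw1 x
    have h4 : w * (y * v) * w⁻¹ = (w * y * w⁻¹) * (w * v * w⁻¹) := by group
    rw [h4, h3] at h2
    exact mul_right_cancel h2
  · intro w hw
    exact b.qc a c hac y (all_le hG b hodd hn S hS ho hij hac hy) w hw

end

end Cfsg.Agent.Omega.NSix.Free
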