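import Cfsg.Agent.Omega.NSix.End

/-!
# OMEGA N6 / LeafF4 (O4), #17439 (helper300): good elements over `Base`

`GoodAt ε W t i j`: `W_ij` acts on `t` as a transvection.  Local versions of `fv_spec`, `fv_add`, `exists_fix` of
`NSix/End.lean` (101) over `Base` (no minimality of `V`).
-/

set_option autoImplicit false

namespace Cfsg.Agent.Omega.NSix.Free

open Subgroup Cfsg Cfsg.Agent.ZN Cfsg.Agent.MinSimple.VModule
open Cfsg.Agent.Omega.S5.Def Cfsg.Agent.Omega.NSix.Base Cfsg.Agent.Omega.NSix.Basic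
open Cfsg.Agent.Omega.NSix.One
open Cfsg.Agent.Omega.NSix.End.Six (fv)

universe u

variable {G : Type u} [Group G] {n : ℕ} {V L : Subgroup G} {ε : (Fin n → ZMod 2) → G}
  {W : Fin n → Fin n → Subgroup G}

/-- induction on the elements of `V` -/
theorem v_ind (b : Base V L ε W) (P : G → Prop) (h1 : P 1) (hz : ∀ k x, x ∈ V → P x → P (zz ε k * x)) :
    ∀ v ∈ V, P v := by
  have key : ∀ S : Finset (Fin n), P (ε (∑ k ∈ S, Pi.single k 1)) := by
    intro S
    induction S using Finset.induction_on with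
    | empty => rw [Finset.sum_empty, b.ev.zero]; exact h1
    | insert k S hk ih =>
      rw [Finset.sum_insert hk, b.ev.add]
      exact hz k _ (b.ev.mem _) ih
  intro v hv
  obtain ⟨x, rfl⟩ := b.ev.surj v hv
  have h1 : x = ∑ k ∈ Finset.univ.filter (fun k => x k ≠ 0), Pi.single k 1 := by
    funext m
    rw [Finset.sum_apply]
    by_cases hm : x m = 0
    · rw [hm, Finset.sum_eq_zero]
      intro k hk
      have : m ≠ k := by
        rintro rfl
        exact (Finset.mem_filter.mp hk).2 hm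
      exact Pi.single_eq_of_ne this _
    · rw [Finset.sum_eq_single m]
      · rw [Pi.single_eq_same]; exact Tv.z2_one hm
      · intro k _ hk
        exact Pi.single_eq_of_ne (Ne.symm hk) _
      · intro h0
        exfalso
        apply h0
        rw [Finset.mem_filter]
        exact ⟨Finset.mem_univ _, hm⟩
  rw [h1]
  exact key _

/-- `t` is acted on by `W_ij` as a vector with a transvection -/
structure GoodAt (ε : (Fin n → ZMod 2) → G) (W : Fin n → Fin n → Subgroup G) (t : G) (i j : Fin n) : Prop where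
  triv : ∀ w ∈ W i j, Acts ε w 1 → w * t * w⁻¹ = t
  act : ∀ w ∈ W i j, w * t * w⁻¹ = t ∨ w * t * w⁻¹ = t * rr ε i j

theorem fv_spec (b : Base V L ε W) {t : G} {i j : Fin n} (h : GoodAt ε W t i j) (hij : i ≠ j) {w : G}
    (hw : w ∈ W i j) (hs : Acts ε w (Equiv.swap i j)) :
    w * t * w⁻¹ = t * pw (rr ε i j) (fv W t i j) := by
  unfold fv
  by_cases hc : ∀ w ∈ W i j, w * t * w⁻¹ = t
  · rw [if_pos hc, pw_zero, mul_one]
    exact hc w hw
  · rw [if_neg hc, pw_one]
    push Not at hc
    obtain ⟨x, hx, hxt⟩ := hc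
    have hx2 := (h.act x hx).resolve_left hxt
    rcases b.act i j hij x hx with hx1 | hx1
    · exact absurd (h.triv x hx hx1) hxt
    · have h1 : Acts ε (x⁻¹ * w) 1 := by
        have := hx1.inv.mul hs
        rwa [inv_mul_cancel] at this
      have h2 := h.triv _ (mul_mem (inv_mem hx) hw) h1
      calc w * t * w⁻¹ = x * ((x⁻¹ * w) * t * (x⁻¹ * w)⁻¹) * x⁻¹ := by group
        _ = _ := by rw [h2, hx2]

theorem fv_symm (b : Base V L ε W) (t : G) {i j : Fin n} (hij : i ≠ j) :
    fv W t i j = fv W t j i := by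
  unfold fv
  rw [w_symm b hij]

/-- `f_13 = f_12 + f_23` -/
theorem fv_add (b : Base V L ε W) (hn : 3 ≤ n) {t : G} {i j k : Fin n}
    (gij : GoodAt ε W t i j) (gjk : GoodAt ε W t j k) (gik : GoodAt ε W t i k)
    (hij : i ≠ j) (hjk : j ≠ k) (hik : i ≠ k) : fv W t i k = fv W t i j + fv W t j k := by
  obtain ⟨w, hw, hws⟩ := b.mov i j hij
  obtain ⟨y, hy, hys⟩ := b.mov j k hjk
  have hx := b.wc y _ hys i j hij w hw
  rw [swap_fix hij hik, Equiv.swap_apply_left] at hx
  have hxs : Acts ε (y * w * y⁻¹) (Equiv.swap i k) := by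
    have h1 := hys.conj hws
    have h2 : Equiv.swap j k * Equiv.swap i j * (Equiv.swap j k)⁻¹ = Equiv.swap i k := by
      have h3 := Equiv.swap_apply_apply (Equiv.swap j k) i j
      rw [swap_fix hij hik, Equiv.swap_apply_left] at h3
      exact h3.symm
    rwa [h2] at h1
  have e1 := fv_spec b gik hik hx hxs
  have e2 := fv_spec b gij hij hw hws
  have e3 := fv_spec b gjk hjk hy hys
  have e3' := fv_spec b gjk hjk (inv_mem hy) (by
    have := hys.inv
    rwa [Equiv.swap_inv] at this)
  -- conjugation of the pairs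
  have p1 : ∀ s, w * pw (rr ε j k) s * w⁻¹ = pw (rr ε i k) s := by
    intro s
    rcases Tv.z2 s with h0 | h0
    · rw [h0, pw_zero, pw_zero]; group
    · rw [h0, pw_one, pw_one, rr_conj hws, Equiv.swap_apply_right, swap_fix hik.symm hjk.symm]
  have p2 : ∀ s, y * pw (rr ε i j) s * y⁻¹ = pw (rr ε i k) s := by
    intro s
    rcases Tv.z2 s with h0 | h0
    · rw [h0, pw_zero, pw_zero]; group
    · rw [h0, pw_one, pw_one, rr_conj hys, Equiv.swap_apply_left, swap_fix hij hik]
  have p3 : ∀ s, y * pw (rr ε i k) s * y⁻¹ = pw (rr ε i j) s := by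
    intro s
    rcases Tv.z2 s with h0 | h0
    · rw [h0, pw_zero, pw_zero]; group
    · rw [h0, pw_one, pw_one, rr_conj hys, Equiv.swap_apply_right, swap_fix hij hik]
  have e4 : y * w * y⁻¹ * t * (y * w * y⁻¹)⁻¹ =
      t * (pw (rr ε j k) (fv W t j k) * pw (rr ε i k) (fv W t i j) *
        pw (rr ε i j) (fv W t j k)) := by
    calc y * w * y⁻¹ * t * (y * w * y⁻¹)⁻¹
        = y * (w * (y⁻¹ * t * y⁻¹⁻¹) * w⁻¹) * y⁻¹ := by group
      _ = y * ((w * t * w⁻¹) * (w * pw (rr ε j k) (fv W t j k) * w⁻¹)) * y⁻¹ := by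
          rw [e3']; group
      _ = y * (t * pw (rr ε i j) (fv W t i j) * pw (rr ε i k) (fv W t j k)) * y⁻¹ := by
          rw [e2, p1]
      _ = (y * t * y⁻¹) * (y * pw (rr ε i j) (fv W t i j) * y⁻¹) *
            (y * pw (rr ε i k) (fv W t j k) * y⁻¹) := by group
      _ = _ := by rw [e3, p2, p3]; group
  rw [e4] at e1
  have e5 := mul_left_cancel e1
  -- compare
  have hik1 := rr_ne_one b.ev hn hik
  have hij1 := rr_ne_one b.ev hn hij
  have q1 : rr ε j k * rr ε i j = rr ε i k := by
    rw [b.ev.comm_mem (rr_mem b.ev j k) (rr_mem b.ev i j), rr_add b.ev]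
  rcases Tv.z2 (fv W t j k) with h1 | h1 <;> rcases Tv.z2 (fv W t i j) with h2 | h2 <;>
    rcases Tv.z2 (fv W t i k) with h3 | h3 <;> rw [h1, h2, h3] at e5 <;> rw [h1, h2, h3]
  · decide
  · simp only [pw_zero, pw_one, one_mul, mul_one] at e5
    exact absurd e5.symm hik1
  · simp only [pw_zero, pw_one, one_mul, mul_one] at e5
    exact absurd e5 hik1
  · decide
  · simp only [pw_zero, pw_one, mul_one] at e5
    rw [q1] at e5
    exact absurd e5 hik1
  · decide
  · decide
  · simp only [pw_one] at e5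
    rw [mul_assoc, b.ev.comm_mem (rr_mem b.ev i k) (rr_mem b.ev i j), ← mul_assoc, q1,
      rr_sq b.ev] at e5
    exact absurd e5.symm hik1

/-- a vector which is good on the letters `P` is fixed up to an element `ε y`, `y` supported in `P` -/
theorem exists_fix_on (b : Base V L ε W) (hn : 3 ≤ n) {P : Fin n → Prop} {t : G}
    (h : ∀ a c, P a → P c → a ≠ c → GoodAt ε W t a c) :
    ∃ y : Fin n → ZMod 2, (∀ m, ¬ P m → y m = 0) ∧
      ∀ a c, P a → P c → a ≠ c → ∀ w ∈ W a c, w * (t * ε y) * w⁻¹ = t * ε y := by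
  classical
  by_cases hP : ∃ o, P o
  swap
  · exact ⟨0, fun _ _ => rfl, fun a _ ha => absurd ⟨a, ha⟩ hP⟩
  obtain ⟨o, ho⟩ := hP
  set x : Fin n → ZMod 2 := fun i => if P i then (if i = o then 0 else fv W t o i) else 0 with hx
  have hval : ∀ i j, P i → P j → i ≠ j → fv W t i j = x i + x j := by
    intro i j pi pj hij
    by_cases h1 : i = o
    · have h2 : j ≠ o := fun h2 => hij (h1.trans h2.symm)
      rw [hx]
      simp only [if_pos pi, if_pos pj, if_pos h1, if_neg h2, zero_add]
      rw [h1]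
    · by_cases h2 : j = o
      · rw [hx]
        simp only [if_pos pi, if_pos pj, if_neg h1, if_pos h2, add_zero]
        rw [h2, fv_symm b _ h1]
      · rw [hx]
        simp only [if_pos pi, if_pos pj, if_neg h1, if_neg h2]
        have h3 := fv_add b hn (h _ _ ho pi (Ne.symm h1)) (h _ _ pi pj hij) (h _ _ ho pj (Ne.symm h2))
          (Ne.symm h1) hij (Ne.symm h2)
        rw [h3, ← add_assoc, Tv.z2_add, zero_add]
  have hswap : ∀ i j : Fin n, i ≠ j → x ∘ (Equiv.swap i j).symm =
      x + (x i + x j) • (Pi.single i 1 + Pi.single j 1) := by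
    intro i j hij
    funext k
    rw [Function.comp_apply, Equiv.symm_swap, Pi.add_apply, Pi.smul_apply, Pi.add_apply]
    by_cases h1 : k = i
    · subst h1
      rw [Equiv.swap_apply_left, Pi.single_eq_same, Pi.single_eq_of_ne hij, add_zero, smul_eq_mul,
        mul_one, ← add_assoc, Tv.z2_add, zero_add]
    by_cases h2 : k = j
    · subst h2
      rw [Equiv.swap_apply_right, Pi.single_eq_same, Pi.single_eq_of_ne h1, zero_add, smul_eq_mul,
        mul_one, add_comm (x i), ← add_assoc, Tv.z2_add, zero_add]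
    · rw [Equiv.swap_apply_of_ne_of_ne h1 h2, Pi.single_eq_of_ne h1, Pi.single_eq_of_ne h2,
        add_zero, smul_zero, add_zero]
  have hact : ∀ i j, i ≠ j → ∀ w, Acts ε w (Equiv.swap i j) →
      w * ε x * w⁻¹ = ε x * pw (rr ε i j) (x i + x j) := by
    intro i j hij w hw
    rw [hw x, hswap i j hij, b.ev.add]
    congr 1
    rcases Tv.z2 (x i + x j) with h1 | h1
    · rw [h1, zero_smul, pw_zero, b.ev.zero]
    · rw [h1, one_smul, pw_one, b.ev.add]
      rfl
  refine ⟨x, fun m hm => by rw [hx]; exact if_neg hm, fun i j pi pj hij w hw => ?_⟩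
  rcases b.act i j hij w hw with h1 | h1
  · have h2 := (h i j pi pj hij).triv w hw h1
    have h3 : w * ε x * w⁻¹ = ε x := h1 x
    calc w * (t * ε x) * w⁻¹ = (w * t * w⁻¹) * (w * ε x * w⁻¹) := by group
      _ = _ := by rw [h2, h3]
  · have h2 := fv_spec b (h i j pi pj hij) hij hw h1
    have h3 := hact i j hij w h1
    have hpV : pw (rr ε i j) (x i + x j) ∈ V := by
      rcases Tv.z2 (x i + x j) with h0 | h0
      · rw [h0, pw_zero]; exact one_mem _
      · rw [h0, pw_one]; exact rr_mem b.ev i j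
    calc w * (t * ε x) * w⁻¹ = (w * t * w⁻¹) * (w * ε x * w⁻¹) := by group
      _ = t * (pw (rr ε i j) (x i + x j) * ε x) * pw (rr ε i j) (x i + x j) := by
          rw [h2, h3, hval i j pi pj hij]; group
      _ = t * (ε x * pw (rr ε i j) (x i + x j)) * pw (rr ε i j) (x i + x j) := by
          rw [b.ev.comm_mem hpV (b.ev.mem x)]
      _ = t * ε x * (pw (rr ε i j) (x i + x j) * pw (rr ε i j) (x i + x j)) := by group
      _ = t * ε x := by rw [b.ev.sq_mem hpV, mul_one]

end Cfsg.Agent.Omega.NSix.Free
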