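import Cfsg.Agent.Omega.NSix.Free.Inter

/-!
# OMEGA N6 / LeafF4 (O4), #17439 (helper300), (2), (3): `N_ij ∩ N_kl` and `D'` normalise `V Σ`

`DD ε W i j = ⟨W_c : c ∈ K⟩ = ⟨W_34 ^ {N_12}⟩`.
`wc_BB`: `W_c` moves an element of `U_ij ∩ V Σ` ⇒ `c ∈ V Σ`.
`two_norm`: `N_ij ∩ N_kl ≤ N_G(V Σ)` for disjoint pairs.  `dd_le`: `DD ≤ N_G(V Σ)`.
-/

set_option autoImplicit false

namespace Cfsg.Agent.Omega.NSix.Free

open Subgroup Cfsg Cfsg.Agent.ZN Cfsg.Agent.MinSimple.VModule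
open Cfsg.Agent.Omega.S5.Def Cfsg.Agent.Omega.NSix.Base Cfsg.Agent.Omega.NSix.Basic
open Cfsg.Agent.Omega.NSix.One
open Cfsg.Agent.Omega.NSix.End.Six (exists_off)

universe u

variable {G : Type u} [Group G] {n : ℕ} {V L : Subgroup G} {ε : (Fin n → ZMod 2) → G}
  {W : Fin n → Fin n → Subgroup G}

/-! ### generation -/

theorem eps_mem (h : EvenSet n V L ε) {H : Subgroup G} {y : Fin n → ZMod 2}
    (hz : ∀ k, y k ≠ 0 → zz ε k ∈ H) : ε y ∈ H := by
  have key : ∀ S : Finset (Fin n), (∀ k ∈ S, y k ≠ 0) → ε (∑ k ∈ S, Pi.single k 1) ∈ H := by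
    intro S
    induction S using Finset.induction_on with
    | empty => intro _; rw [Finset.sum_empty, h.zero]; exact one_mem _
    | insert k S hk ih =>
      intro h1
      rw [Finset.sum_insert hk, h.add]
      exact mul_mem (hz k (h1 k (Finset.mem_insert_self _ _)))
        (ih fun m hm => h1 m (Finset.mem_insert_of_mem hm))
  have h1 : y = ∑ k ∈ Finset.univ.filter (fun k => y k ≠ 0), Pi.single k 1 := by
    funext m
    rw [Finset.sum_apply]
    by_cases hm : y m = 0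
    · rw [hm, Finset.sum_eq_zero]
      intro k hk
      have : m ≠ k := by
        rintro rfl
        exact (Finset.mem_filter.mp hk).2 hm
      exact Pi.single_eq_of_ne this _
    · rw [Finset.sum_eq_single m]
      · rw [Pi.single_eq_same]; exact Tv.z2_one hm
      · intro k _ hk
        exact Pi.single_eq_of_ne (Ne.symm hk) _
      · intro h0
        exfalso
        apply h0
        rw [Finset.mem_filter]
        exact ⟨Finset.mem_univ _, hm⟩
  rw [h1]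
  exact key _ fun k hk => (Finset.mem_filter.mp hk).2

/-- a subgroup which contains all points contains `V` -/
theorem v_le_of_zz (h : EvenSet n V L ε) {H : Subgroup G} (hz : ∀ k, zz ε k ∈ H) : V ≤ H := by
  intro v hv
  obtain ⟨y, rfl⟩ := h.surj v hv
  exact eps_mem h fun k _ => hz k

/-- a subgroup which contains the points off `i`, `j` contains `V ∩ U_ij` -/
theorem v_uu_le_of_zz (b : Base V L ε W) (hn : 3 ≤ n) {i j : Fin n} (hij : i ≠ j) {H : Subgroup G}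
    (hz : ∀ k, k ≠ i → k ≠ j → zz ε k ∈ H) {v : G} (hv : v ∈ V) (hvU : v ∈ UU ε i j) : v ∈ H := by
  obtain ⟨y, rfl⟩ := b.ev.surj v hv
  obtain ⟨w, hw, hws⟩ := b.mov i j hij
  have h1 : y i = y j := by
    refine coord b.ev hn hws ?_
    rw [mul_inv_eq_iff_eq_mul]
    exact (b.cen i j hij _ hvU w hw).symm
  have key : ∀ y : Fin n → ZMod 2, y i = 0 → y j = 0 → ε y ∈ H := by
    intro y hi hj
    refine eps_mem b.ev fun k hk => hz k ?_ ?_
    · rintro rfl; exact hk hi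
    · rintro rfl; exact hk hj
  rcases Tv.z2 (y i) with h0 | h0
  · exact key y h0 (by rw [← h1, h0])
  · have h2 : ε (y + 1) = ε y := by rw [b.ev.add, b.ev.one, mul_one]
    rw [← h2]
    refine key _ ?_ ?_
    · rw [Pi.add_apply, h0, Pi.one_apply]; decide
    · rw [Pi.add_apply, ← h1, h0, Pi.one_apply]; decide

/-- a subgroup which contains `r_ij` and the pairs off `i`, `j` contains the points off `i`, `j` -/
theorem zz_mem_of_rr (h : EvenSet n V L ε) (hodd : Odd n) (hn : 3 ≤ n) {i j : Fin n} (hij : i ≠ j)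
    {H : Subgroup G} (h1 : rr ε i j ∈ H)
    (h2 : ∀ a c, a ≠ c → a ≠ i → a ≠ j → c ≠ i → c ≠ j → rr ε a c ∈ H) {m : Fin n} (mi : m ≠ i)
    (mj : m ≠ j) : zz ε m ∈ H := by
  have h3 := compl_rr h hij (fun t y => y ∈ V ∧ y * zz ε m ^ t ∈ H)
    ⟨one_mem _, by rw [pow_zero, mul_one]; exact one_mem _⟩ (by
      rintro k ki kj t y ⟨hy, hyH⟩
      refine ⟨mul_mem (zz_mem h k) hy, ?_⟩
      have h4 : zz ε k * y * zz ε m ^ (t + 1) = (zz ε k * zz ε m) * (y * zz ε m ^ t) := by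
        rw [pow_succ']
        calc zz ε k * y * (zz ε m * zz ε m ^ t) = zz ε k * (y * zz ε m) * zz ε m ^ t := by group
          _ = zz ε k * (zz ε m * y) * zz ε m ^ t := by rw [h.comm_mem hy (zz_mem h m)]
          _ = _ := by group
      rw [h4]
      refine mul_mem ?_ hyH
      by_cases hkm : k = m
      · subst hkm; rw [zz_sq h]; exact one_mem _
      · exact h2 k m hkm ki kj mi mj)
  obtain ⟨t, ht⟩ := hodd
  have h4 : zz ε m ^ (n - 2) = zz ε m := by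
    have h5 : n - 2 = 2 * (t - 1) + 1 := by omega
    rw [h5, pow_add, pow_mul, pow_one, pow_two, zz_sq h, one_pow, one_mul]
  rw [h4] at h3
  have h5 := mul_mem (inv_mem h1) h3.2
  rwa [inv_mul_cancel_left] at h5

/-- exchange of letters -/
theorem spread_abs {P : Fin n → Prop} {Q : Fin n → Fin n → Prop} (symm : ∀ a c, Q a c → Q c a)
    (sw : ∀ p q a c, P p → P q → p ≠ q → Q a c → Q (Equiv.swap p q a) (Equiv.swap p q c))
    {k l a c : Fin n} (hk : P k) (hl : P l) (ha : P a) (hc : P c) (hkl : k ≠ l) (hac : a ≠ c)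
    (h : Q k l) : Q a c := by
  have key : ∀ {k l c : Fin n}, P k → P l → P c → k ≠ l → k ≠ c → Q k l → Q k c := by
    intro k l c _ hl hc hkl hkc h
    by_cases hlc : l = c
    · subst hlc; exact h
    · have h1 := sw l c k l hl hc hlc h
      rwa [Equiv.swap_apply_of_ne_of_ne hkl hkc, Equiv.swap_apply_left] at h1
  by_cases h1 : a = k
  · subst h1
    exact key hk hl hc hkl hac h
  by_cases h2 : a = l
  · subst h2
    exact key hl hk hc hkl.symm hac (symm _ _ h)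
  · exact key ha hk hc h1 hac (symm _ _ (key hk hl ha hkl (Ne.symm h1) h))

theorem mem_normalizer_of_le [Finite G] {H : Subgroup G} {g : G} (h : ∀ x ∈ H, g * x * g⁻¹ ∈ H) :
    g ∈ normalizer (H : Set G) := by
  apply mem_normalizer_of_map_le
  rintro _ ⟨v, hv, rfl⟩
  exact h v hv

/-- three letters off four letters -/
theorem exists_three (hn : 7 ≤ n) (a c d e : Fin n) : ∃ p q r : Fin n, p ≠ q ∧ p ≠ r ∧ q ≠ r ∧
    (p ≠ a ∧ p ≠ c ∧ p ≠ d ∧ p ≠ e) ∧ (q ≠ a ∧ q ≠ c ∧ q ≠ d ∧ q ≠ e) ∧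
    (r ≠ a ∧ r ≠ c ∧ r ≠ d ∧ r ≠ e) := by
  have hcard : 2 < (Finset.univ \ {a, c, d, e} : Finset (Fin n)).card := by
    have h1 := Finset.le_card_sdiff {a, c, d, e} (Finset.univ : Finset (Fin n))
    rw [Finset.card_univ, Fintype.card_fin] at h1
    have h2 : ({a, c, d, e} : Finset (Fin n)).card ≤ 4 := Finset.card_le_four
    omega
  obtain ⟨p, hp, q, hq, r, hr, hpq, hpr, hqr⟩ := Finset.two_lt_card.mp hcard
  simp only [Finset.mem_sdiff, Finset.mem_univ, true_and, Finset.mem_insert,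
    Finset.mem_singleton, not_or] at hp hq hr
  exact ⟨p, q, r, hpq, hpr, hqr, hp, hq, hr⟩

section

variable (b : Base V L ε W)
include b

/-- if `x ∈ W_c` treats two points in the same way then it commutes with the pair -/
theorem pair_of_iff {i j : Fin n} (hij : i ≠ j) {c x : G} (hx : Wc ε W i j c x) {a d : Fin n}
    (ai : a ≠ i) (aj : a ≠ j) (di : d ≠ i) (dj : d ≠ j)
    (hiff : x * zz ε a * x⁻¹ = zz ε a ↔ x * zz ε d * x⁻¹ = zz ε d) : x ∈ NN ε a d := by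
  have h1 := wc_act b hij hx (zz_mem_UU (ε := ε) ai aj)
  have h2 := wc_act b hij hx (zz_mem_UU (ε := ε) di dj)
  have hcK := wc_kk hx
  rw [mem_NN']
  unfold rr
  have h4 : x * (zz ε a * zz ε d) * x⁻¹ = (x * zz ε a * x⁻¹) * (x * zz ε d * x⁻¹) := by group
  rw [h4]
  by_cases h5 : x * zz ε a * x⁻¹ = zz ε a
  · rw [h5, hiff.mp h5]
  · rw [h1.resolve_left h5, h2.resolve_left (fun h => h5 (hiff.mpr h))]
    have h6 := uu_comm b hij (kk_mem_UU hcK) (zz_mem_UU (ε := ε) di dj)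
    calc zz ε a * c * (zz ε d * c) = zz ε a * (c * zz ε d) * c := by group
      _ = zz ε a * zz ε d * (c * c) := by rw [h6]; group
      _ = _ := by rw [kk_sq b hcK, mul_one]

/-- among three letters there is a pair commuting with `x ∈ W_c` -/
theorem pair_of_three (hn : 7 ≤ n) {i j : Fin n} (hij : i ≠ j) {c x : G} (hx : Wc ε W i j c x)
    (c1 c2 : Fin n) : ∃ a d : Fin n, a ≠ d ∧ (a ≠ i ∧ a ≠ j ∧ a ≠ c1 ∧ a ≠ c2) ∧
      (d ≠ i ∧ d ≠ j ∧ d ≠ c1 ∧ d ≠ c2) ∧ x ∈ NN ε a d := by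
  obtain ⟨p, q, r, hpq, hpr, hqr, hp, hq, hr⟩ := exists_three hn i j c1 c2
  by_cases h1 : x * zz ε p * x⁻¹ = zz ε p <;> by_cases h2 : x * zz ε q * x⁻¹ = zz ε q <;>
    by_cases h3 : x * zz ε r * x⁻¹ = zz ε r
  · exact ⟨p, q, hpq, hp, hq, pair_of_iff b hij hx hp.1 hp.2.1 hq.1 hq.2.1 (iff_of_true h1 h2)⟩
  · exact ⟨p, q, hpq, hp, hq, pair_of_iff b hij hx hp.1 hp.2.1 hq.1 hq.2.1 (iff_of_true h1 h2)⟩
  · exact ⟨p, r, hpr, hp, hr, pair_of_iff b hij hx hp.1 hp.2.1 hr.1 hr.2.1 (iff_of_true h1 h3)⟩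
  · exact ⟨q, r, hqr, hq, hr, pair_of_iff b hij hx hq.1 hq.2.1 hr.1 hr.2.1 (iff_of_false h2 h3)⟩
  · exact ⟨q, r, hqr, hq, hr, pair_of_iff b hij hx hq.1 hq.2.1 hr.1 hr.2.1 (iff_of_true h2 h3)⟩
  · exact ⟨p, r, hpr, hp, hr, pair_of_iff b hij hx hp.1 hp.2.1 hr.1 hr.2.1 (iff_of_false h1 h3)⟩
  · exact ⟨p, q, hpq, hp, hq, pair_of_iff b hij hx hp.1 hp.2.1 hq.1 hq.2.1 (iff_of_false h1 h2)⟩
  · exact ⟨p, q, hpq, hp, hq, pair_of_iff b hij hx hp.1 hp.2.1 hq.1 hq.2.1 (iff_of_false h1 h2)⟩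

end

/-- `D' = ⟨W_c : c ∈ K⟩` -/
def DD (ε : (Fin n → ZMod 2) → G) (W : Fin n → Fin n → Subgroup G) (i j : Fin n) : Subgroup G :=
  closure {x | ∃ c, Wc ε W i j c x}

theorem wc_le_DD {i j : Fin n} {c x : G} (hx : Wc ε W i j c x) : x ∈ DD ε W i j :=
  subset_closure ⟨c, hx⟩

theorem dd_le_NN (b : Base V L ε W) (i j : Fin n) : DD ε W i j ≤ NN ε i j := by
  unfold DD
  rw [closure_le]
  rintro x ⟨c, hx⟩
  exact wc_NN b hx

theorem dd_normal {i j : Fin n} : NN ε i j ≤ normalizer (DD ε W i j : Set G) := by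
  have key : ∀ g ∈ NN ε i j, ∀ x ∈ DD ε W i j, g * x * g⁻¹ ∈ DD ε W i j := by
    intro g hg x hx
    have h1 : DD ε W i j ≤ (DD ε W i j).comap (MulAut.conj g).toMonoidHom := by
      conv_lhs => unfold DD
      rw [closure_le]
      rintro y ⟨c, hy⟩
      exact wc_le_DD (wc_conj hy hg)
    exact h1 hx
  intro g hg
  rw [mem_normalizer_iff]
  refine fun x => ⟨key g hg x, fun hx => ?_⟩
  have := key g⁻¹ (inv_mem hg) _ hx
  have e : g⁻¹ * (g * x * g⁻¹) * g⁻¹⁻¹ = x := by group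
  rwa [e] at this

/-- the pairs off `i`, `j` are conjugate under `D'` -/
theorem dd_trans (b : Base V L ε W) {i j k l a c : Fin n} (ki : k ≠ i) (kj : k ≠ j) (li : l ≠ i)
    (lj : l ≠ j) (hkl : k ≠ l) (ai : a ≠ i) (aj : a ≠ j) (ci : c ≠ i) (cj : c ≠ j) (hac : a ≠ c) :
    ∃ d ∈ DD ε W i j, d * rr ε k l * d⁻¹ = rr ε a c := by
  refine spread_abs (P := fun m => m ≠ i ∧ m ≠ j)
    (Q := fun a c => ∃ d ∈ DD ε W i j, d * rr ε k l * d⁻¹ = rr ε a c) ?_ ?_
    ⟨ki, kj⟩ ⟨li, lj⟩ ⟨ai, aj⟩ ⟨ci, cj⟩ hkl hac ⟨1, one_mem _, by group⟩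
  · rintro a c ⟨d, hd, h⟩
    exact ⟨d, hd, by rw [h, rr_symm b.ev]⟩
  · rintro p q a c hp hq hpq ⟨d, hd, h⟩
    obtain ⟨w, hw, hws⟩ := b.mov p q hpq
    refine ⟨w * d, mul_mem (wc_le_DD ((wc_rr b hp hq hpq).mpr hw)) hd, ?_⟩
    rw [← rr_conj hws, ← h]
    group

section

variable [Finite G] (b : Base V L ε W) (hodd : Odd n) (hn : 7 ≤ n)
include b hodd hn

/-- **(2)**: if `W_c` moves an element of `U_ij ∩ V Σ` then `c ∈ V Σ` -/
theorem wc_BB {i j : Fin n} (hij : i ≠ j) {c x t : G} (hx : Wc ε W i j c x) (ht : t ∈ UU ε i j)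
    (htB : t ∈ BB V ε) (hm : x * t * x⁻¹ ≠ t) : c ∈ BB V ε := by
  by_contra hcB
  have hcK := wc_kk hx
  have hcU := kk_mem_UU hcK
  have hcne := kk_ne b (by omega) hcK
  have hA : ∀ a d, a ≠ d → a ≠ i → a ≠ j → d ≠ i → d ≠ j → x ∈ NN ε a d → ∀ u ∈ UU ε i j,
      u ∈ UU ε a d → x * u * x⁻¹ = u := by
    intro a d had ai aj di dj hxN u hu hu2
    rcases wc_act b hij hx hu with h | h
    · exact h
    · exfalso
      apply hcB
      have h1 := UU_normal hxN hu2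
      rw [h] at h1
      have h2 : c ∈ UU ε a d := by
        have := mul_mem (inv_mem hu2) h1
        rwa [inv_mul_cancel_left] at this
      exact inter b hodd hn hij had ai aj di dj hcU h2
  have hpt := fun m (hmi : m ≠ i) (hmj : m ≠ j) => wc_act b hij hx (zz_mem_UU (ε := ε) hmi hmj)
  have hC : ∀ c1 c2, c1 ≠ i → c1 ≠ j → c2 ≠ i → c2 ≠ j →
      x * rr ε c1 c2 * x⁻¹ = rr ε c1 c2 := by
    intro c1 c2 h1 h2 h3 h4
    obtain ⟨a, d, had, ⟨a1, a2, a3, a4⟩, ⟨d1, d2, d3, d4⟩, hxN⟩ := pair_of_three b hn hij hx c1 c2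
    exact hA a d had a1 a2 d1 d2 hxN _ (rr_mem_UU h1 h2 h3 h4)
      (rr_mem_UU (Ne.symm a3) (Ne.symm d3) (Ne.symm a4) (Ne.symm d4))
  have hr : x * rr ε i j * x⁻¹ = rr ε i j := mem_NN'.mp (wc_NN b hx)
  have hD : ∀ m, m ≠ i → m ≠ j → x * zz ε m * x⁻¹ = zz ε m := by
    intro m mi mj
    have h1 : zz ε m ∈ centralizer ({x} : Set G) := by
      refine zz_mem_of_rr b.ev hodd (by omega) hij ?_ ?_ mi mj
      · rw [mem_centralizer_singleton_iff]
        exact (mul_inv_eq_iff_eq_mul.mp hr).symm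
      · intro a d _ ai aj di dj
        rw [mem_centralizer_singleton_iff]
        exact (mul_inv_eq_iff_eq_mul.mp (hC a d ai aj di dj)).symm
    rw [mem_centralizer_singleton_iff] at h1
    rw [← h1, mul_inv_cancel_right]
  obtain ⟨v, hv, s, hs, rfl⟩ := (mem_BB b (by omega)).mp htB
  have hsU := hs i j hij
  have hvU : v ∈ UU ε i j := by
    have := mul_mem ht (inv_mem hsU)
    rwa [mul_inv_cancel_right] at this
  have hxv : x * v * x⁻¹ = v := by
    have h1 : v ∈ centralizer ({x} : Set G) := by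
      refine v_uu_le_of_zz b (by omega) hij (fun k ki kj => ?_) hv hvU
      rw [mem_centralizer_singleton_iff]
      exact (mul_inv_eq_iff_eq_mul.mp (hD k ki kj)).symm
    rw [mem_centralizer_singleton_iff] at h1
    rw [← h1, mul_inv_cancel_right]
  apply hm
  obtain ⟨a, d, had, ⟨a1, a2, -, -⟩, ⟨d1, d2, -, -⟩, hxN⟩ := pair_of_three b hn hij hx i i
  have h2 := hA a d had a1 a2 d1 d2 hxN s hsU (hs a d had)
  calc x * (v * s) * x⁻¹ = (x * v * x⁻¹) * (x * s * x⁻¹) := by group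
    _ = _ := by rw [hxv, h2]

/-- `D'` normalises `U_ij ∩ V Σ` -/
theorem dd_AS {i j : Fin n} (hij : i ≠ j) :
    DD ε W i j ≤ normalizer ((UU ε i j ⊓ BB V ε : Subgroup G) : Set G) := by
  conv_lhs => unfold DD
  rw [closure_le]
  rintro x ⟨c, hx⟩
  refine mem_normalizer_of_le ?_
  intro t ht
  obtain ⟨h1, h2⟩ := Subgroup.mem_inf.mp ht
  by_cases hm : x * t * x⁻¹ = t
  · rw [hm]; exact ht
  · rw [(wc_act b hij hx h1).resolve_left hm]
    exact Subgroup.mem_inf.mpr ⟨mul_mem h1 (kk_mem_UU (wc_kk hx)),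
      mul_mem h2 (wc_BB b hodd hn hij hx h1 h2 hm)⟩

/-- `N_ij ∩ N_kl` normalises `U_ij ∩ V Σ` (mod `V Σ`) -/
theorem yy_AS {i j k l : Fin n} (hij : i ≠ j) (hkl : k ≠ l) (ki : k ≠ i) (kj : k ≠ j) (li : l ≠ i)
    (lj : l ≠ j) {y t : G} (hy1 : y ∈ NN ε i j) (hy2 : y ∈ NN ε k l) (ht : t ∈ UU ε i j)
    (htB : t ∈ BB V ε) : y * t * y⁻¹ ∈ BB V ε := by
  have hs : ∀ s ∈ SG ε, y * s * y⁻¹ ∈ BB V ε := fun s hs =>
    inter b hodd hn hij hkl ki kj li lj (UU_normal hy1 (hs i j hij)) (UU_normal hy2 (hs k l hkl))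
  have hz : ∀ m, m ≠ i → m ≠ j → zz ε m ∈ (BB V ε).comap (MulAut.conj y).toMonoidHom := by
    intro m mi mj
    refine zz_mem_of_rr b.ev hodd (by omega) hij ?_ ?_ mi mj
    · change y * rr ε i j * y⁻¹ ∈ BB V ε
      rw [mem_NN'.mp hy1]
      exact v_le_BB (rr_mem b.ev i j)
    · intro a c hac ai aj ci cj
      change y * rr ε a c * y⁻¹ ∈ BB V ε
      obtain ⟨d, hd, h1⟩ := dd_trans b ki kj li lj hkl ai aj ci cj hac
      have h2 : y * d * y⁻¹ ∈ DD ε W i j := (mem_normalizer_iff.mp (dd_normal hy1) d).mp hd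
      have h3 : rr ε k l ∈ (UU ε i j ⊓ BB V ε : Subgroup G) :=
        Subgroup.mem_inf.mpr ⟨rr_mem_UU ki kj li lj, v_le_BB (rr_mem b.ev k l)⟩
      have h4 := (mem_normalizer_iff.mp (dd_AS b hodd hn hij h2) _).mp h3
      have h5 : y * rr ε a c * y⁻¹ = y * d * y⁻¹ * rr ε k l * (y * d * y⁻¹)⁻¹ := by
        have h6 : y⁻¹ * rr ε k l * y = rr ε k l := by
          have := mem_NN'.mp (inv_mem hy2)
          rwa [inv_inv] at this
        rw [← h1]
        calc y * (d * rr ε k l * d⁻¹) * y⁻¹ = y * d * (rr ε k l) * d⁻¹ * y⁻¹ := by group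
          _ = y * d * (y⁻¹ * rr ε k l * y) * d⁻¹ * y⁻¹ := by rw [h6]
          _ = _ := by group
      rw [h5]
      exact (Subgroup.mem_inf.mp h4).2
  obtain ⟨v, hv, s, hs', rfl⟩ := (mem_BB b (by omega)).mp htB
  have hvU : v ∈ UU ε i j := by
    have := mul_mem ht (inv_mem (hs' i j hij))
    rwa [mul_inv_cancel_right] at this
  have h1 : y * v * y⁻¹ ∈ BB V ε := v_uu_le_of_zz b (by omega) hij hz hv hvU
  have h2 : y * (v * s) * y⁻¹ = (y * v * y⁻¹) * (y * s * y⁻¹) := by group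
  rw [h2]
  exact mul_mem h1 (hs s hs')

/-- **(3)**: `N_ij ∩ N_kl ≤ N_G(V Σ)` -/
theorem two_norm {i j k l : Fin n} (hij : i ≠ j) (hkl : k ≠ l) (ki : k ≠ i) (kj : k ≠ j)
    (li : l ≠ i) (lj : l ≠ j) {y : G} (hy1 : y ∈ NN ε i j) (hy2 : y ∈ NN ε k l) :
    y ∈ normalizer (BB V ε : Set G) := by
  refine mem_normalizer_of_le ?_
  have hs : ∀ s ∈ SG ε, y * s * y⁻¹ ∈ BB V ε := fun s hs =>
    inter b hodd hn hij hkl ki kj li lj (UU_normal hy1 (hs i j hij)) (UU_normal hy2 (hs k l hkl))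
  have hV : V ≤ (BB V ε).comap (MulAut.conj y).toMonoidHom := by
    refine v_le_of_zz b.ev fun m => ?_
    change y * zz ε m * y⁻¹ ∈ BB V ε
    by_cases hm : m ≠ i ∧ m ≠ j
    · exact yy_AS b hodd hn hij hkl ki kj li lj hy1 hy2 (zz_mem_UU hm.1 hm.2) (v_le_BB (zz_mem b.ev m))
    · have hm' : m ≠ k ∧ m ≠ l := by
        constructor
        · rintro rfl; exact hm ⟨ki, kj⟩
        · rintro rfl; exact hm ⟨li, lj⟩
      exact yy_AS b hodd hn hkl hij (Ne.symm ki) (Ne.symm li) (Ne.symm kj) (Ne.symm lj) hy2 hy1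
        (zz_mem_UU hm'.1 hm'.2) (v_le_BB (zz_mem b.ev m))
  intro x hx
  obtain ⟨v, hv, s, hs', rfl⟩ := (mem_BB b (by omega)).mp hx
  have h2 : y * (v * s) * y⁻¹ = (y * v * y⁻¹) * (y * s * y⁻¹) := by group
  rw [h2]
  exact mul_mem (hV hv) (hs s hs')

/-- `D' ≤ N_G(V Σ)` -/
theorem dd_le {i j : Fin n} (hij : i ≠ j) : DD ε W i j ≤ normalizer (BB V ε : Set G) := by
  unfold DD
  rw [closure_le]
  rintro x ⟨c, hx⟩
  obtain ⟨a, d, had, ⟨a1, a2, -, -⟩, ⟨d1, d2, -, -⟩, hxN⟩ := pair_of_three b hn hij hx i i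
  exact two_norm b hodd hn hij had a1 a2 d1 d2 (wc_NN b hx) hxN

end

end Cfsg.Agent.Omega.NSix.Free
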